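import Groth.Agent.Eckardt51.Form
import Mathlib.Algebra.Polynomial.Roots
import Mathlib.Algebra.CharZero.Infinite
import Mathlib.LinearAlgebra.Basis.VectorSpace
import Mathlib.LinearAlgebra.FreeModule.Finite.Basic

/-!
Cubic forms: good points, lines, polynomial functions.
-/

set_option autoImplicit false

namespace Groth.Agent.Cubic51

open Eckardt51

variable {k V : Type*} [Field k] [CharZero k] [AddCommGroup V] [Module k V]

/-- No plane lies on the cubic surface (and the form is not zero). -/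
def NoPlane (F : Sym3 k V) : Prop := ∀ h : V →ₗ[k] k, ∃ x, h x = 0 ∧ F.f x ≠ 0

/-- The surface is not a cone. -/
def NonCone (F : Sym3 k V) : Prop := ∀ v, v ≠ 0 → ∃ x, F.T v x x ≠ 0

/-- A point which is singular, or whose tangent plane section is not a union of lines. -/
structure Good (F : Sym3 k V) (a : V) : Prop where
  ne : a ≠ 0
  zero : F.f a = 0
  polar : ∃ z, F.T a a z = 0 ∧ F.T a z z ≠ 0
  nonT : ∀ h : V →ₗ[k] k, ∃ z, F.T a a z = 0 ∧ F.f z ≠ h z * F.T a z z

/-- A line on the surface. -/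
def IsLine (F : Sym3 k V) (U : Submodule k V) : Prop :=
  Module.finrank k U = 2 ∧ ∀ u ∈ U, F.f u = 0

variable (F : Sym3 k V)

omit [CharZero k] in
lemma f_smul_add_smul (a z : V) (s w : k) : F.f (s • a + w • z) =
    s ^ 3 * F.f a + 3 * s ^ 2 * w * F.T a a z + 3 * s * w ^ 2 * F.T a z z + w ^ 3 * F.f z := by
  rw [F.f_add_smul, F.f_smul]
  simp only [map_smul, LinearMap.smul_apply, smul_eq_mul]
  ring

omit [CharZero k] in
lemma T_aab (a : V) : F.T a a a = F.f a := rfl

lemma good_of_singular (hP : NoPlane F) (hC : NonCone F) {a : V} (ha : a ≠ 0)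
    (hs : ∀ z, F.T a a z = 0) : Good F a := by
  refine ⟨ha, hs a, ?_, fun h => ?_⟩
  · obtain ⟨x, hx⟩ := hC a ha
    exact ⟨x, hs x, hx⟩
  · obtain ⟨x, hx, hfx⟩ := hP h
    exact ⟨x, hs x, by rw [hx, zero_mul]; exact hfx⟩

/-- Functions given by polynomials in linear coordinates. -/
def PolyFun (φ : V → k) : Prop :=
  ∀ (n : ℕ) (ψ : (Fin n → k) →ₗ[k] V), ∃ p : MvPolynomial (Fin n) k,
    ∀ x, MvPolynomial.eval x p = φ (ψ x)

namespace PolyFun

open MvPolynomial

omit [CharZero k] in
lemma linear (h : V →ₗ[k] k) : PolyFun (fun x => h x) := fun n ψ => by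
  refine ⟨∑ i, C (h (ψ (Pi.single i 1))) * X i, fun x => ?_⟩
  conv_rhs => rw [pi_eq_sum_univ' x]
  simp only [map_sum, map_smul, smul_eq_mul, map_mul, eval_C, eval_X]
  exact Finset.sum_congr rfl fun i _ => by ring

omit [CharZero k] in
lemma const (c : k) : PolyFun (fun _ : V => c) := fun _ _ => ⟨C c, fun x => eval_C c⟩

omit [CharZero k] in
lemma add {φ χ : V → k} (h₁ : PolyFun φ) (h₂ : PolyFun χ) : PolyFun (fun x => φ x + χ x) :=
  fun n ψ => by
    obtain ⟨p, hp⟩ := h₁ n ψ
    obtain ⟨q, hq⟩ := h₂ n ψ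
    exact ⟨p + q, fun x => by simp [hp, hq]⟩

omit [CharZero k] in
lemma mul {φ χ : V → k} (h₁ : PolyFun φ) (h₂ : PolyFun χ) : PolyFun (fun x => φ x * χ x) :=
  fun n ψ => by
    obtain ⟨p, hp⟩ := h₁ n ψ
    obtain ⟨q, hq⟩ := h₂ n ψ
    exact ⟨p * q, fun x => by simp [hp, hq]⟩

omit [CharZero k] in
lemma congr {φ χ : V → k} (h₁ : PolyFun φ) (h : ∀ x, φ x = χ x) : PolyFun χ := by
  rwa [show χ = φ from funext fun x => (h x).symm]

omit [CharZero k] in
lemma sum {ι : Type*} (s : Finset ι) {φ : ι → V → k} (h : ∀ i ∈ s, PolyFun (φ i)) :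
    PolyFun (fun x => ∑ i ∈ s, φ i x) := by
  classical
  induction s using Finset.induction_on with
  | empty => exact (const (0 : k)).congr fun _ => by simp
  | insert i t hi ih =>
    exact ((h i (Finset.mem_insert_self _ _)).add
      (ih fun j hj => h j (Finset.mem_insert_of_mem hj))).congr fun x => by
        rw [Finset.sum_insert hi]

omit [CharZero k] in
lemma tri [FiniteDimensional k V] (A B D : V →ₗ[k] V) :
    PolyFun (fun x => F.T (A x) (B x) (D x)) := by
  let b := Module.finBasis k V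
  refine (sum Finset.univ fun i _ => (linear ((b.coord i).comp A)).mul
    (sum Finset.univ fun j _ => (linear ((b.coord j).comp B)).mul
      (linear ((F.T (b i) (b j)).comp D)))).congr fun x => ?_
  conv_rhs => rw [← b.sum_repr (A x), ← b.sum_repr (B x)]
  simp only [map_sum, map_smul, LinearMap.sum_apply, LinearMap.smul_apply, smul_eq_mul,
    LinearMap.comp_apply, Module.Basis.coord_apply]
  simp only [Finset.mul_sum]
  rw [Finset.sum_comm]
  exact Finset.sum_congr rfl fun i _ => Finset.sum_congr rfl fun j _ => by ring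

omit [CharZero k] in
lemma f [FiniteDimensional k V] : PolyFun (fun x => F.f x) := tri F .id .id .id

omit [CharZero k] in
lemma quadratic [FiniteDimensional k V] (a : V) : PolyFun (fun x => F.T a x x) := by
  let b := Module.finBasis k V
  refine (sum Finset.univ fun i _ => (linear (b.coord i)).mul (linear (F.T a (b i)))).congr
    fun x => ?_
  conv_rhs => arg 1; arg 2; rw [← b.sum_repr x]
  simp only [map_sum, map_smul, LinearMap.sum_apply, LinearMap.smul_apply, smul_eq_mul,
    Module.Basis.coord_apply]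

/-- A finite product of polynomial functions vanishing on a subspace has a vanishing factor. -/
lemma exists_eq_zero [FiniteDimensional k V] {ι : Type*} (s : Finset ι) {φ : ι → V → k}
    (hφ : ∀ i ∈ s, PolyFun (φ i)) (W : Submodule k V)
    (h : ∀ x ∈ W, ∃ i ∈ s, φ i x = 0) : ∃ i ∈ s, ∀ x ∈ W, φ i x = 0 := by
  classical
  let b := Module.finBasis k W
  let ψ : (Fin (Module.finrank k W) → k) →ₗ[k] V :=
    W.subtype.comp b.equivFun.symm.toLinearMap
  choose p hp using fun i : s => hφ i i.2 _ ψ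
  have h0 : ∏ i : s, p i = 0 := by
    refine MvPolynomial.funext fun x => ?_
    obtain ⟨i, hi, hi0⟩ := h (ψ x) (b.equivFun.symm x).2
    rw [map_prod, map_zero]
    exact Finset.prod_eq_zero (Finset.mem_univ ⟨i, hi⟩) (by rw [hp]; exact hi0)
  obtain ⟨⟨i, hi⟩, -, hi0⟩ := Finset.prod_eq_zero_iff.1 h0
  refine ⟨i, hi, fun x hx => ?_⟩
  have := hp ⟨i, hi⟩ (b.equivFun ⟨x, hx⟩)
  rw [hi0, map_zero] at this
  simpa [ψ] using this.symm

lemma mul_eq_zero_on [FiniteDimensional k V] {φ χ : V → k} (h₁ : PolyFun φ) (h₂ : PolyFun χ)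
    (W : Submodule k V) (h : ∀ x ∈ W, φ x * χ x = 0) :
    (∀ x ∈ W, φ x = 0) ∨ ∀ x ∈ W, χ x = 0 := by
  obtain ⟨i, -, hi⟩ := exists_eq_zero (s := (Finset.univ : Finset (Fin 2))) (φ := ![φ, χ])
    (fun i _ => by fin_cases i; exacts [h₁, h₂]) W fun x hx => by
      rcases mul_eq_zero.1 (h x hx) with h | h
      · exact ⟨0, by simp, h⟩
      · exact ⟨1, by simp, h⟩
  fin_cases i
  · exact .inl hi
  · exact .inr hi

end PolyFun

/-- If a plane section through a point lies in finitely many planes, then it is contained in one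
of them, or decomposes. -/
lemma covered_section [FiniteDimensional k V] {a : V} (ha : F.f a = 0)
    (s : Finset (V →ₗ[k] k)) (hs : ∀ x, F.f x = 0 → F.T a a x = 0 → ∃ h ∈ s, h x = 0) :
    ∃ h ∈ s, ∀ z, F.T a a z = 0 → F.f z * h a = 3 * (h z * F.T a z z) := by
  obtain ⟨h, hh, h0⟩ := PolyFun.exists_eq_zero (V := V) s
    (φ := fun h z => -(F.f z) * h a + 3 * (h z * F.T a z z))
    (fun h _ => ((((PolyFun.const (-1 : k)).mul (PolyFun.f F)).mul (PolyFun.const (h a))).add
      ((PolyFun.const 3).mul ((PolyFun.linear h).mul (PolyFun.quadratic F a)))).congr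
        fun z => by ring)
    (LinearMap.ker (F.T a a)) fun z hz => by
      rw [LinearMap.mem_ker] at hz
      obtain ⟨h, hh, h0⟩ := hs ((-F.f z) • a + (3 * F.T a z z) • z)
        (by rw [f_smul_add_smul, ha, hz]; ring)
        (by simp [hz, T_aab, ha])
      refine ⟨h, hh, ?_⟩
      rw [map_add, map_smul, map_smul] at h0
      rw [← h0]
      simp only [smul_eq_mul]
      ring
  refine ⟨h, hh, fun z hz => ?_⟩
  linear_combination -(h0 z (LinearMap.mem_ker.2 hz))

end Groth.Agent.Cubic51
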