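import Groth.Agent.Cubic51.Five
import Mathlib.RingTheory.MvPolynomial.Homogeneous
import Mathlib.RingTheory.Polynomial.UniqueFactorization
import Mathlib.RingTheory.MvPolynomial.IrreducibleQuadratic
import Mathlib.Algebra.MvPolynomial.NoZeroDivisors
import Mathlib.FieldTheory.IsAlgClosed.AlgebraicClosure

/-!
From homogeneous polynomials to symmetric trilinear forms.
-/

set_option autoImplicit false

namespace Groth.Agent.Cubic51

open Eckardt51 MvPolynomial

variable {k : Type*} [Field k] {n : ℕ}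

/-- The linear form with given values on the unit vectors. -/
noncomputable def linPoly (h : (Fin n → k) →ₗ[k] k) : MvPolynomial (Fin n) k :=
  ∑ i, C (h (Pi.single i 1)) * X i

lemma eval_linPoly (h : (Fin n → k) →ₗ[k] k) (x : Fin n → k) : eval x (linPoly h) = h x := by
  conv_rhs => rw [pi_eq_sum_univ' x]
  simp only [linPoly, map_sum, map_mul, eval_C, eval_X, map_smul, smul_eq_mul]
  exact Finset.sum_congr rfl fun i _ => by ring

lemma linPoly_homogeneous (h : (Fin n → k) →ₗ[k] k) : (linPoly h).IsHomogeneous 1 :=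
  IsHomogeneous.sum _ _ _ fun i _ => (isHomogeneous_X k i).C_mul _

lemma dvd_of_vanish [Infinite k] {h : (Fin n → k) →ₗ[k] k} (hh : h ≠ 0)
    {G : MvPolynomial (Fin n) k} (hG : ∀ x, h x = 0 → eval x G = 0) : linPoly h ∣ G := by
  classical
  obtain ⟨i, hi⟩ : ∃ i, h (Pi.single i 1) ≠ 0 := by
    by_contra hc
    push Not at hc
    refine hh (LinearMap.ext fun x => ?_)
    rw [pi_eq_sum_univ' x]
    simp [hc]
  let σ : Fin n → MvPolynomial (Fin n) k := fun j =>
    X j - C ((Pi.single i 1 : Fin n → k) j / h (Pi.single i 1)) * linPoly h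
  have h1 : ∀ p : MvPolynomial (Fin n) k, p - aeval σ p ∈ Ideal.span {linPoly h} := by
    intro p
    induction p using MvPolynomial.induction_on with
    | C a => simp
    | add a b ha hb =>
      rw [map_add, show a + b - (aeval σ a + aeval σ b) = (a - aeval σ a) + (b - aeval σ b) by ring]
      exact add_mem ha hb
    | mul_X a j ha =>
      rw [map_mul, aeval_X, show a * X j - aeval σ a * σ j =
        (a - aeval σ a) * X j + aeval σ a * (X j - σ j) by ring]
      refine add_mem (Ideal.mul_mem_right _ _ ha) (Ideal.mul_mem_left _ _ ?_)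
      simp only [σ, sub_sub_cancel]
      exact Ideal.mul_mem_left _ _ (Ideal.mem_span_singleton_self _)
  have h2 : aeval σ G = 0 := by
    refine MvPolynomial.funext fun x => ?_
    rw [map_zero, ← aeval_eq_eval, comp_aeval_apply]
    have hσ : (fun j => aeval x (σ j)) = x - (h x / h (Pi.single i 1)) • Pi.single i (1 : k) := by
      funext j
      simp [σ, aeval_eq_eval, eval_linPoly, Pi.single_apply]
      split_ifs <;> simp <;> field_simp
    rw [hσ, aeval_eq_eval]
    refine hG _ ?_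
    rw [map_sub, map_smul, smul_eq_mul, div_mul_cancel₀ _ hi, sub_self]
  have := h1 G
  rwa [h2, sub_zero, Ideal.mem_span_singleton] at this

/-- Sum of first derivatives against a vector. -/
lemma sum_pderiv_eq [CharZero k] {f : MvPolynomial (Fin n) k} (hf : f.IsHomogeneous 3)
    (x v : Fin n → k) :
    ∑ i, v i * eval x (pderiv i f) = 3 * (ofPoly f).T x x v := by
  conv_rhs => rw [pi_eq_sum_univ' v]
  simp only [map_sum, map_smul, smul_eq_mul, Finset.mul_sum]
  exact Finset.sum_congr rfl fun i _ => by rw [← ofPoly_T_single hf]; ring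

lemma nonCone_of [CharZero k] {f : MvPolynomial (Fin n) k} (hf : f.IsHomogeneous 3)
    (hcone : ¬ ∃ v : Fin n → k, v ≠ 0 ∧ ∑ i, v i • pderiv i f = 0) : NonCone (ofPoly f) := by
  intro v hv
  by_contra hc
  push Not at hc
  refine hcone ⟨v, hv, MvPolynomial.funext fun x => ?_⟩
  rw [map_sum, map_zero]
  simp only [smul_eval]
  rw [sum_pderiv_eq hf, (ofPoly f).s13, hc x, mul_zero]

lemma noPlane_of {K : Type*} [Field K] [Algebra k K] [CharZero k] {f : MvPolynomial (Fin n) k}
    (hf : f.IsHomogeneous 3) (hirr : Irreducible (map (algebraMap k K) f)) :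
    NoPlane (ofPoly f) := by
  intro h
  by_contra hc
  push Not at hc
  by_cases hh : h = 0
  · refine hirr.ne_zero ?_
    rw [show f = 0 from MvPolynomial.funext fun x => by
      rw [eval_eq_f hf, map_zero]; exact hc x (by simp [hh]), map_zero]
  obtain ⟨G, hG⟩ := dvd_of_vanish hh (G := f) fun x hx => by rw [eval_eq_f hf]; exact hc x hx
  have hdeg : ∀ {p : MvPolynomial (Fin n) K}, IsUnit p → p.totalDegree = 0 := fun hp =>
    ((MvPolynomial.isUnit_iff_totalDegree_of_isReduced).1 hp).2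
  have hl : (map (algebraMap k K) (linPoly h)).IsHomogeneous 1 :=
    (linPoly_homogeneous h).map _
  have hf3 : (map (algebraMap k K) f).IsHomogeneous 3 := hf.map _
  rw [hG, map_mul] at hirr
  have hl0 : map (algebraMap k K) (linPoly h) ≠ 0 := left_ne_zero_of_mul hirr.ne_zero
  have hG0 : map (algebraMap k K) G ≠ 0 := right_ne_zero_of_mul hirr.ne_zero
  rcases hirr.isUnit_or_isUnit rfl with hu | hu
  · have := hdeg hu
    rw [hl.totalDegree hl0] at this
    simp at this
  · have h1 := hf3.totalDegree (by rw [hG, map_mul]; exact mul_ne_zero hl0 hG0)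
    rw [hG, map_mul, totalDegree_mul_of_isDomain hl0 hG0, hdeg hu, hl.totalDegree hl0] at h1
    simp at h1

variable {R : Type*} [CommRing R] {K : Type*} [Field K] [IsAlgClosed K] [Algebra K R]

lemma split_two (c₀ c₁ c₂ : K) (x y : R) : ∃ a b c d : K,
    c₀ • (x * x) + c₁ • (x * y) + c₂ • (y * y) = (a • x + b • y) * (c • x + d • y) := by
  by_cases h : c₂ = 0
  · exact ⟨1, 0, c₀, c₁, by simp [h, Algebra.smul_def]; ring⟩
  obtain ⟨r, hr⟩ := IsAlgClosed.exists_root
    (Polynomial.C c₂ * Polynomial.X ^ 2 + Polynomial.C c₁ * Polynomial.X + Polynomial.C c₀)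
    (by rw [Polynomial.degree_quadratic h]; decide)
  simp [Polynomial.IsRoot] at hr
  refine ⟨-r, 1, c₁ + c₂ * r, c₂, ?_⟩
  have : algebraMap K R c₀ = algebraMap K R (-r * (c₁ + c₂ * r)) := congrArg _ (by linear_combination hr)
  simp [Algebra.smul_def] at this ⊢
  rw [this]
  ring

lemma split_three (c₀ c₁ c₂ c₃ : K) (x y : R) : ∃ a b : Fin 3 → K,
    c₀ • (x * x * x) + c₁ • (x * x * y) + c₂ • (x * y * y) + c₃ • (y * y * y) =
      (a 0 • x + b 0 • y) * (a 1 • x + b 1 • y) * (a 2 • x + b 2 • y) := by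
  by_cases h : c₃ = 0
  · obtain ⟨a, b, c, d, he⟩ := split_two c₀ c₁ c₂ x y
    refine ⟨![1, a, c], ![0, b, d], ?_⟩
    simp only [Matrix.cons_val_zero, Matrix.cons_val_one, Matrix.cons_val, one_smul, zero_smul,
      add_zero]
    rw [mul_assoc x (a • x + b • y), ← he, h]
    simp [Algebra.smul_def]
    ring
  obtain ⟨r, hr⟩ := IsAlgClosed.exists_root
    (Polynomial.C c₃ * Polynomial.X ^ 3 + Polynomial.C c₂ * Polynomial.X ^ 2 +
      Polynomial.C c₁ * Polynomial.X + Polynomial.C c₀)
    (by rw [Polynomial.degree_cubic h]; decide)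
  simp [Polynomial.IsRoot] at hr
  obtain ⟨a, b, c, d, he⟩ := split_two (c₁ + r * (c₂ + r * c₃)) (c₂ + r * c₃) c₃ x y
  refine ⟨![-r, a, c], ![1, b, d], ?_⟩
  simp only [Matrix.cons_val_zero, Matrix.cons_val_one, Matrix.cons_val, one_smul]
  rw [mul_assoc ((-r) • x + y), ← he]
  have : algebraMap K R c₀ = algebraMap K R (-r * (c₁ + r * (c₂ + r * c₃))) :=
    congrArg _ (by linear_combination hr)
  simp [Algebra.smul_def] at this ⊢
  rw [this]
  ring

section GoodOf

open Module

variable {k K : Type*} [Field k] [CharZero k] [Field K] [IsAlgClosed K] [Algebra k K]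

/-- A point whose tangent section is not three lines over the algebraic closure is good. -/
theorem good_of_nonT {F : MvPolynomial (Fin 4) k} (hF : F.IsHomogeneous 3)
    (hP : NoPlane (ofPoly F)) (hC : NonCone (ofPoly F)) {a : Fin 4 → k} (ha : a ≠ 0)
    (hFa : eval a F = 0) (ℓ : MvPolynomial (Fin 4) K)
    (hℓ : ℓ = ∑ i : Fin 4, C (algebraMap k K (eval a (pderiv i F))) * X i)
    (hT : ¬ ∃ L₁ L₂ L₃ : MvPolynomial (Fin 4) K,
      L₁.IsHomogeneous 1 ∧ L₂.IsHomogeneous 1 ∧ L₃.IsHomogeneous 1 ∧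
        map (algebraMap k K) F - L₁ * L₂ * L₃ ∈ Ideal.span {ℓ}) :
    Good (ofPoly F) a := by
  set S := ofPoly F
  by_cases ht : S.T a a = 0
  · exact good_of_singular S hP hC ha fun z => by rw [ht]; rfl
  have hfa : S.f a = 0 := by rw [← eval_eq_f hF]; exact hFa
  have hT3 : finrank k (LinearMap.ker (S.T a a)) = 3 := by
    have h1 := finrank_ker_add_one ht
    have h2 : finrank k (Fin 4 → k) = 4 := Module.finrank_fin_fun k
    omega
  have haT : a ∈ LinearMap.ker (S.T a a) := by simp [T_aab, hfa]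
  obtain ⟨w₁, hw₁, w₂, hw₂, hli⟩ := exists_basis_extend hT3 haT ha
  rw [LinearMap.mem_ker] at hw₁ hw₂
  let B : Basis (Fin 3) k (LinearMap.ker (S.T a a)) :=
    basisOfLinearIndependentOfCardEqFinrank
      (b := ![⟨w₂, LinearMap.mem_ker.2 hw₂⟩, ⟨w₁, LinearMap.mem_ker.2 hw₁⟩, ⟨a, haT⟩])
      (LinearIndependent.of_comp (LinearMap.ker (S.T a a)).subtype (by
        convert hli using 1
        funext i; fin_cases i <;> rfl)) (by simp [hT3])
  obtain ⟨β, hβ⟩ := (B.coord 1).exists_extend
  obtain ⟨γ, hγ⟩ := (B.coord 0).exists_extend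
  obtain ⟨α, hα⟩ := (B.coord 2).exists_extend
  have hdec : ∀ z, S.T a a z = 0 → z = α z • a + (β z • w₁ + γ z • w₂) := by
    intro z hz
    have h1 := congrArg (Subtype.val) (B.sum_repr ⟨z, LinearMap.mem_ker.2 hz⟩).symm
    simp [Fin.sum_univ_three, B] at h1
    have e1 : β z = B.coord 1 ⟨z, LinearMap.mem_ker.2 hz⟩ := by rw [← hβ]; rfl
    have e2 : γ z = B.coord 0 ⟨z, LinearMap.mem_ker.2 hz⟩ := by rw [← hγ]; rfl
    have e3 : α z = B.coord 2 ⟨z, LinearMap.mem_ker.2 hz⟩ := by rw [← hα]; rfl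
    rw [e1, e2, e3]
    conv_lhs => rw [h1]
    simp [B]
    abel
  have hℓk : ℓ = C (algebraMap k K 3) * map (algebraMap k K) (linPoly (S.T a a)) := by
    rw [hℓ, linPoly, map_sum, Finset.mul_sum]
    refine Finset.sum_congr rfl fun i _ => ?_
    rw [map_mul, map_C, map_X, ← mul_assoc, ← C_mul, ← map_mul, ofPoly_T_single hF]
  -- a product formula gives a decomposition
  have key : ∀ (P : MvPolynomial (Fin 4) k) (L₁ L₂ L₃ : MvPolynomial (Fin 4) K),
      L₁.IsHomogeneous 1 → L₂.IsHomogeneous 1 → L₃.IsHomogeneous 1 →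
      map (algebraMap k K) P = L₁ * L₂ * L₃ →
      (∀ z, S.T a a z = 0 → S.f z = eval z P) → False := by
    intro P L₁ L₂ L₃ h1 h2 h3 hprod hval
    refine hT ⟨L₁, L₂, L₃, h1, h2, h3, ?_⟩
    rw [← hprod, ← map_sub, Ideal.mem_span_singleton, hℓk]
    have h3 : IsUnit (C (algebraMap k K 3) : MvPolynomial (Fin 4) K) :=
      (isUnit_iff_ne_zero.2 (by simp [map_ne_zero])).map C
    refine h3.mul_left_dvd.2 (_root_.map_dvd _ (dvd_of_vanish ht fun z hz => ?_))
    rw [map_sub, eval_eq_f hF, hval z hz, sub_self]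
  have hQ : ∀ z, S.T a a z = 0 → S.T a z z = β z * β z * S.T a w₁ w₁ +
      β z * γ z * (2 * S.T a w₁ w₂) + γ z * γ z * S.T a w₂ w₂ := by
    intro z hz
    conv_lhs => rw [hdec z hz]
    simp only [map_add, map_smul, LinearMap.add_apply, LinearMap.smul_apply, smul_eq_mul, T_aab,
      hfa, hw₁, hw₂, S.s23 a w₁ a, S.s23 a w₂ a, S.s23 a w₂ w₁]
    ring
  have hlin : ∀ (h : (Fin 4 → k) →ₗ[k] k), (map (algebraMap k K) (linPoly h)).IsHomogeneous 1 :=
    fun h => (linPoly_homogeneous h).map _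
  set x := map (algebraMap k K) (linPoly β)
  set y := map (algebraMap k K) (linPoly γ)
  have hcomb : ∀ p q : K, (p • x + q • y).IsHomogeneous 1 := fun p q => by
    simp only [smul_eq_C_mul]
    exact ((hlin β).C_mul p).add ((hlin γ).C_mul q)
  refine ⟨ha, hfa, ?_, fun h => ?_⟩
  · by_contra hc
    push Not at hc
    let P : MvPolynomial (Fin 4) k := S.f w₁ • (linPoly β * linPoly β * linPoly β) +
      (3 * S.T w₁ w₁ w₂) • (linPoly β * linPoly β * linPoly γ) +
      (3 * S.T w₁ w₂ w₂) • (linPoly β * linPoly γ * linPoly γ) +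
      S.f w₂ • (linPoly γ * linPoly γ * linPoly γ)
    obtain ⟨p, q, hpq⟩ := split_three (algebraMap k K (S.f w₁))
      (algebraMap k K (3 * S.T w₁ w₁ w₂)) (algebraMap k K (3 * S.T w₁ w₂ w₂))
      (algebraMap k K (S.f w₂)) x y
    refine key P _ _ _ (hcomb _ _) (hcomb _ _) (hcomb _ _) (Eq.trans ?_ hpq) fun z hz => ?_
    · simp only [P, smul_eq_C_mul, map_add, map_mul, map_C, x, y]
    · have h1 := hdec z hz
      conv_lhs => rw [h1]
      set w := β z • w₁ + γ z • w₂ with hw
      have hTw : S.T a a w = 0 := by simp [hw, hw₁, hw₂]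
      have h2 := f_smul_add_smul S a w (α z) 1
      rw [one_smul, hfa, hTw, hc w hTw] at h2
      rw [h2, hw, f_smul_add_smul]
      simp [P, smul_eval, eval_linPoly]
      ring
  · by_contra hc
    push Not at hc
    let Q : MvPolynomial (Fin 4) k := S.T a w₁ w₁ • (linPoly β * linPoly β) +
      (2 * S.T a w₁ w₂) • (linPoly β * linPoly γ) + S.T a w₂ w₂ • (linPoly γ * linPoly γ)
    obtain ⟨p, q, r, s, hpq⟩ := split_two (algebraMap k K (S.T a w₁ w₁))
      (algebraMap k K (2 * S.T a w₁ w₂)) (algebraMap k K (S.T a w₂ w₂)) x y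
    refine key (linPoly h * Q) _ _ _ (hlin h) (hcomb p q) (hcomb r s) ?_ fun z hz => ?_
    · rw [map_mul, mul_assoc]
      congr 1
      refine Eq.trans ?_ hpq
      simp only [Q, smul_eq_C_mul, map_add, map_mul, map_C, x, y]
    · rw [hc z hz, hQ z hz, map_mul, eval_linPoly]
      congr 1
      simp [Q, smul_eval, eval_linPoly]
      ring

end GoodOf

end Groth.Agent.Cubic51
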