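import Groth.Agent.Cubic51.Basic
import Mathlib.LinearAlgebra.Vandermonde
import Mathlib.Algebra.Polynomial.Derivative
import Mathlib.Data.Fintype.Pigeonhole

/-!
The rational points of a cubic surface with a good rational point are not covered by planes.
-/

set_option autoImplicit false

namespace Groth.Agent.Cubic51

open Eckardt51 Module

variable {k V : Type*} [Field k] [CharZero k] [AddCommGroup V] [Module k V] [FiniteDimensional k V]

omit [CharZero k] in
lemma exists_basis_extend {H : Submodule k V} (hH : finrank k H = 3) {a : V} (haH : a ∈ H)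
    (ha : a ≠ 0) : ∃ w₁ ∈ H, ∃ w₂ ∈ H, LinearIndependent k ![w₂, w₁, a] := by
  have h1 : LinearIndependent k ![a] := LinearIndependent.of_subsingleton (0 : Fin 1) (by simpa using ha)
  obtain ⟨w₁, hw₁, hn₁⟩ : ∃ w ∈ H, w ∉ Submodule.span k (Set.range ![a]) := by
    by_contra hc
    push Not at hc
    have := Submodule.finrank_mono (show H ≤ Submodule.span k (Set.range ![a]) from hc)
    rw [hH, finrank_span_eq_card h1] at this
    simp at this
  have h2 : LinearIndependent k ![w₁, a] := linearIndependent_fin_cons.2 ⟨h1, hn₁⟩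
  obtain ⟨w₂, hw₂, hn₂⟩ : ∃ w ∈ H, w ∉ Submodule.span k (Set.range ![w₁, a]) := by
    by_contra hc
    push Not at hc
    have := Submodule.finrank_mono (show H ≤ Submodule.span k (Set.range ![w₁, a]) from hc)
    rw [hH, finrank_span_eq_card h2] at this
    simp at this
  exact ⟨w₁, hw₁, w₂, hw₂, linearIndependent_fin_cons.2 ⟨h2, hn₂⟩⟩

omit [CharZero k] in
lemma finrank_ker_add_one {h : V →ₗ[k] k} (hh : h ≠ 0) :
    finrank k (LinearMap.ker h) + 1 = finrank k V :=
  Module.Dual.finrank_ker_add_one_of_ne_zero hh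

omit [CharZero k] in
lemma exists_ne_zero_mem_inf {U W H : Submodule k V} (hU : U ≤ H) (hW : W ≤ H)
    (h : finrank k H < finrank k U + finrank k W) : ∃ x ∈ U, x ∈ W ∧ x ≠ 0 := by
  have h1 := Submodule.finrank_sup_add_finrank_inf_eq U W
  have h2 := Submodule.finrank_mono (sup_le hU hW)
  have h3 : U ⊓ W ≠ ⊥ := fun h0 => by rw [h0, finrank_bot] at h1; omega
  obtain ⟨x, hx, hx0⟩ := (Submodule.ne_bot_iff _).1 h3
  exact ⟨x, hx.1, hx.2, hx0⟩

omit [FiniteDimensional k V] in
lemma finite_roots_line (F : Sym3 k V) (u p : V) (hp : F.f p ≠ 0) :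
    {s : k | F.f (u + s • p) = 0}.Finite := by
  open Polynomial in
  let P : k[X] := C (F.f u) + C (3 * F.T u u p) * X + C (3 * F.T u p p) * X ^ 2 + C (F.f p) * X ^ 3
  have hP : P ≠ 0 := fun h => hp (by
    simpa [P, Polynomial.coeff_C, ← map_mul] using congrArg (fun q => q.coeff 3) h)
  refine (Polynomial.finite_setOf_isRoot hP).subset fun s hs => ?_
  simp only [Set.mem_ofPred_eq] at hs ⊢
  rw [F.f_add_smul] at hs
  simp [P]
  linear_combination hs

/-- A plane not on the surface contains only finitely many lines of the surface. -/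
theorem finite_lines_in_plane (F : Sym3 k V) {H : Submodule k V} (hH : finrank k H = 3)
    {p : V} (hpH : p ∈ H) (hp : F.f p ≠ 0) : {m | IsLine F m ∧ m ≤ H}.Finite := by
  classical
  have hp0 : p ≠ 0 := fun h => hp (by simp [h, Sym3.f])
  obtain ⟨u₁, hu₁, u₂, hu₂, hli⟩ := exists_basis_extend hH hpH hp0
  refine Set.Finite.subset (((finite_roots_line F u₁ p hp).prod (finite_roots_line F u₂ p hp)).image
    fun r => Submodule.span k (Set.range ![u₁ + r.1 • p, u₂ + r.2 • p])) ?_
  rintro m ⟨⟨hm, hmS⟩, hmH⟩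
  have key : ∀ u ∈ H, LinearIndependent k ![u, p] → ∃ s : k, u + s • p ∈ m := by
    intro u hu hup
    obtain ⟨x, hxm, hxW, hx0⟩ := exists_ne_zero_mem_inf hmH
      (show Submodule.span k (Set.range ![u, p]) ≤ H by
        rw [Submodule.span_le]; rintro _ ⟨i, rfl⟩; fin_cases i <;> simpa)
      (by rw [hH, hm, finrank_span_eq_card hup]; simp)
    obtain ⟨c, rfl⟩ := (Submodule.mem_span_range_iff_exists_fun k).1 hxW
    simp only [Fin.sum_univ_two, Matrix.cons_val_zero, Matrix.cons_val_one,
      Matrix.cons_val_fin_one] at hxm hx0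
    have hc : c 0 ≠ 0 := fun h => by
      simp only [h, zero_smul, zero_add] at hxm hx0
      have h1 := hmS _ hxm
      rw [F.f_smul] at h1
      exact hp ((mul_eq_zero.1 h1).resolve_left (pow_ne_zero _ fun h2 => hx0 (by simp [h2])))
    refine ⟨(c 0)⁻¹ * c 1, ?_⟩
    have := m.smul_mem (c 0)⁻¹ hxm
    rwa [smul_add, smul_smul, smul_smul, inv_mul_cancel₀ hc, one_smul] at this
  have hli' := Fintype.linearIndependent_iff.1 hli
  obtain ⟨s, hs⟩ := key u₁ hu₁ (linearIndependent_fin_cons.1 hli).1
  obtain ⟨r, hr⟩ := key u₂ hu₂ (by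
    refine LinearIndependent.pair_iff.2 fun x y h => ?_
    have := hli' ![x, 0, y] (by simpa [Fin.sum_univ_three] using h)
    exact ⟨this 0, this 2⟩)
  refine ⟨(s, r), ⟨hmS _ hs, hmS _ hr⟩, ?_⟩
  refine Submodule.eq_of_le_of_finrank_eq ?_ ?_
  · rw [Submodule.span_le]
    rintro _ ⟨i, rfl⟩
    fin_cases i <;> simpa
  · rw [hm, finrank_span_eq_card, Fintype.card_fin]
    refine LinearIndependent.pair_iff.2 fun x y h => ?_
    have := hli' ![y, x, x * s + y * r] (by
      simp [Fin.sum_univ_three]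
      linear_combination (norm := module) h)
    exact ⟨this 1, this 0⟩

open Polynomial in
lemma wronskian {k : Type*} [Field k] [CharZero k] {G W : k[X]} (hW : W ≠ 0)
    (h : derivative G * W = G * derivative W) : ∃ κ, G = C κ * W := by
  have key : ∀ D : k[X], derivative D * W = D * derivative W → D.natDegree = W.natDegree ∨ D = 0 := by
    intro D hD
    by_cases hD0 : D = 0
    · exact .inr hD0
    left
    by_cases hd : derivative D = 0
    · rw [hd, zero_mul, eq_comm, mul_eq_zero] at hD
      have hd' := hD.resolve_left hD0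
      rw [Polynomial.natDegree_eq_zero_of_derivative_eq_zero hd,
        Polynomial.natDegree_eq_zero_of_derivative_eq_zero hd']
    · have hd' : derivative W ≠ 0 := fun h0 => by
        rw [h0, mul_zero, mul_eq_zero] at hD
        exact hD.elim hd hW
      have hlc := congrArg leadingCoeff hD
      rw [leadingCoeff_mul, leadingCoeff_mul, leadingCoeff, leadingCoeff, leadingCoeff,
        leadingCoeff, natDegree_derivative, natDegree_derivative,
        coeff_derivative, coeff_derivative] at hlc
      have hn : D.natDegree ≠ 0 := fun h0 =>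
        hd (by rw [Polynomial.eq_C_of_natDegree_eq_zero h0, derivative_C])
      have hn' : W.natDegree ≠ 0 := fun h0 =>
        hd' (by rw [Polynomial.eq_C_of_natDegree_eq_zero h0, derivative_C])
      rw [Nat.sub_add_cancel (by omega), Nat.sub_add_cancel (by omega)] at hlc
      have h1 : ((D.natDegree - 1 : ℕ) : k) + 1 = (D.natDegree : k) := by
        rw [← Nat.cast_add_one, Nat.sub_add_cancel (by omega)]
      have h2 : ((W.natDegree - 1 : ℕ) : k) + 1 = (W.natDegree : k) := by
        rw [← Nat.cast_add_one, Nat.sub_add_cancel (by omega)]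
      rw [h1, h2] at hlc
      have : (D.coeff D.natDegree * W.coeff W.natDegree) * ((D.natDegree : k) - W.natDegree) = 0 := by
        linear_combination hlc
      rcases mul_eq_zero.1 this with h0 | h0
      · exact absurd h0 (mul_ne_zero (leadingCoeff_ne_zero.2 hD0) (leadingCoeff_ne_zero.2 hW))
      · exact Nat.cast_injective (sub_eq_zero.1 h0)
  refine ⟨G.coeff W.natDegree / W.leadingCoeff, sub_eq_zero.1 ?_⟩
  set D := G - C (G.coeff W.natDegree / W.leadingCoeff) * W with hD
  rcases key D (by rw [hD, derivative_sub, derivative_C_mul]; linear_combination h) with h1 | h1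
  · refine Polynomial.leadingCoeff_eq_zero.1 ?_
    rw [leadingCoeff, h1, hD, coeff_sub, coeff_C_mul, ← leadingCoeff,
      div_mul_cancel₀ _ (leadingCoeff_ne_zero.2 hW), sub_self]
  · exact h1

open Polynomial in
/-- The rational points are not covered by finitely many planes. -/
theorem not_covered (F : Sym3 k V) (h4 : finrank k V = 4) (hP : NoPlane F) {a : V} (hG : Good F a)
    (s : Finset (V →ₗ[k] k)) (hs : ∀ h ∈ s, h ≠ 0) :
    ∃ x, F.f x = 0 ∧ ∀ h ∈ s, h x ≠ 0 := by
  classical
  by_contra hcov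
  push Not at hcov
  by_cases ht : F.T a a = 0
  · -- singular point
    obtain ⟨h, hh, h0⟩ := covered_section F hG.zero s fun x hx _ => hcov x hx
    by_cases ha : h a = 0
    · rcases PolyFun.mul_eq_zero_on (PolyFun.linear h) (PolyFun.quadratic F a) ⊤ (fun x _ => by
        have := h0 x (by simp [ht])
        rw [ha, mul_zero] at this
        simpa using this.symm) with h1 | h1
      · exact hs h hh (LinearMap.ext fun x => h1 x trivial)
      · obtain ⟨z, -, hz⟩ := hG.polar
        exact hz (h1 z trivial)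
    · obtain ⟨z, hz, hz'⟩ := hG.nonT ((3 / h a) • h)
      refine hz' ?_
      rw [LinearMap.smul_apply, smul_eq_mul]
      field_simp
      linear_combination h0 z hz
  -- smooth point
  have hT3 : finrank k (LinearMap.ker (F.T a a)) = 3 := by
    have := finrank_ker_add_one ht; omega
  have haT : a ∈ LinearMap.ker (F.T a a) := by simp [T_aab, hG.zero]
  obtain ⟨w₁, hw₁, w₂, hw₂, hli⟩ := exists_basis_extend hT3 haT hG.ne
  rw [LinearMap.mem_ker] at hw₁ hw₂
  obtain ⟨v, hv⟩ : ∃ v, F.T a a v ≠ 0 := by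
    by_contra hc
    push Not at hc
    exact ht (LinearMap.ext hc)
  have hli4 : LinearIndependent k ![v, w₂, w₁, a] := by
    refine linearIndependent_fin_cons.2 ⟨hli, fun h => hv ?_⟩
    have hle : Submodule.span k (Set.range ![w₂, w₁, a]) ≤ LinearMap.ker (F.T a a) := by
      rw [Submodule.span_le]
      rintro _ ⟨i, rfl⟩
      fin_cases i <;> simp [hw₁, hw₂, T_aab, hG.zero]
    exact LinearMap.mem_ker.1 (hle h)
  let B : Basis (Fin 4) k V := basisOfLinearIndependentOfCardEqFinrank hli4 (by simp [h4])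
  have hB : ∀ i, B i = ![v, w₂, w₁, a] i := fun i => by simp [B]
  have hdec : ∀ z, F.T a a z = 0 →
      z = B.coord 3 z • a + (B.coord 2 z • w₁ + B.coord 1 z • w₂) := by
    intro z hz
    have h := (B.sum_repr z).symm
    simp only [Fin.sum_univ_four, hB, Matrix.cons_val_zero, Matrix.cons_val_one,
      Matrix.cons_val] at h
    have h1 := congrArg (F.T a a) h
    simp only [map_add, map_smul, hz, hw₁, hw₂, T_aab, hG.zero, smul_eq_mul, mul_zero,
      add_zero] at h1
    rw [(mul_eq_zero.1 h1.symm).resolve_right hv] at h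
    conv_lhs => rw [h]
    simp only [Basis.coord_apply, zero_smul, zero_add]
    abel
  let g : k[X] := C (F.f w₁) + C (3 * F.T w₁ w₁ w₂) * X + C (3 * F.T w₁ w₂ w₂) * X ^ 2 +
    C (F.f w₂) * X ^ 3
  let q : k[X] := C (3 * F.T a w₁ w₁) + C (6 * F.T a w₁ w₂) * X + C (3 * F.T a w₂ w₂) * X ^ 2
  let y : k → V := fun ν => w₁ + ν • w₂
  have hg : ∀ ν, F.f (y ν) = g.eval ν := fun ν => by
    simp [g, y, F.f_add_smul]; ring
  have hq : ∀ ν, 3 * F.T a (y ν) (y ν) = q.eval ν := fun ν => by
    simp [q, y, F.s23 a w₂ w₁]; ring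
  have hy : ∀ ν, F.T a a (y ν) = 0 := fun ν => by simp [y, hw₁, hw₂]
  have hsec : ∀ (α ω ν : k), F.f (α • a + ω • y ν) = ω ^ 2 * (α * q.eval ν + ω * g.eval ν) := by
    intro α ω ν
    rw [f_smul_add_smul, hG.zero, hy, hg, ← hq]
    ring
  have hindep : ∀ (c₀ c₁ c₂ : k), C c₀ * g + q * (C c₁ + C c₂ * X) = 0 →
      c₀ = 0 ∧ c₁ = 0 ∧ c₂ = 0 := by
    intro c₀ c₁ c₂ hid
    let L : V →ₗ[k] k := B.constr k ![0, c₂, c₁, -c₀]
    have hLv : L a = -c₀ ∧ L w₁ = c₁ ∧ L w₂ = c₂ := by
      have := fun i => B.constr_basis k ![0, c₂, c₁, -c₀] i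
      refine ⟨?_, ?_, ?_⟩
      · simpa [L, hB] using this 3
      · simpa [L, hB] using this 2
      · simpa [L, hB] using this 1
    have hon : ∀ z ∈ LinearMap.ker (F.T a a),
        B.coord 2 z * (c₀ * F.f z + 3 * F.T a z z * L z) = 0 := by
      intro z hz
      by_cases hc : B.coord 2 z = 0
      · rw [hc, zero_mul]
      refine mul_eq_zero_of_right _ ?_
      have hz' : z = B.coord 3 z • a + B.coord 2 z • y (B.coord 1 z / B.coord 2 z) := by
        simp only [y, smul_add, smul_smul, mul_div_cancel₀ _ hc]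
        exact hdec z hz
      generalize B.coord 3 z = α, B.coord 2 z = ω, B.coord 1 z / B.coord 2 z = ν at hz'
      subst hz'
      rw [hsec]
      have hQ : F.T a (α • a + ω • y ν) (α • a + ω • y ν) = ω ^ 2 * F.T a (y ν) (y ν) := by
        have h1 : F.T a a a = 0 := hG.zero
        have h2 := hy ν
        simp only [map_add, map_smul, LinearMap.add_apply, LinearMap.smul_apply, smul_eq_mul, h1,
          h2, F.s23 a (y ν) a]
        ring
      have hev := congrArg (Polynomial.eval ν) hid
      simp only [Polynomial.eval_add, Polynomial.eval_mul, Polynomial.eval_C, Polynomial.eval_X,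
        Polynomial.eval_zero] at hev
      have hyL : L (y ν) = c₁ + ν * c₂ := by simp [y, hLv]
      rw [hQ]
      simp only [map_add, map_smul, hyL, hLv.1]
      simp only [smul_eq_mul]
      linear_combination ω ^ 3 * hev + ω ^ 2 * (ω * c₁ + ω * ν * c₂ - α * c₀) * hq ν
    rcases PolyFun.mul_eq_zero_on (PolyFun.linear (B.coord 2))
      (((PolyFun.const c₀).mul (PolyFun.f F)).add
        (((PolyFun.const 3).mul (PolyFun.quadratic F a)).mul (PolyFun.linear L)))
      _ hon with h1 | h1
    · exact absurd (h1 w₁ (LinearMap.mem_ker.2 hw₁)) (by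
        rw [show w₁ = B 2 by simp [hB]]; simp)
    by_cases hc : c₀ = 0
    · have h2 : ∀ z ∈ LinearMap.ker (F.T a a), L z = 0 := by
        rcases PolyFun.mul_eq_zero_on (PolyFun.quadratic F a) (PolyFun.linear L)
          (LinearMap.ker (F.T a a)) (fun z hz => by
            have := h1 z hz
            rw [hc, zero_mul, zero_add, mul_assoc] at this
            exact (mul_eq_zero.1 this).resolve_left (by norm_num)) with h2 | h2
        · obtain ⟨z, hz, hz'⟩ := hG.polar
          exact absurd (h2 z (LinearMap.mem_ker.2 hz)) hz'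
        · exact h2
      exact ⟨hc, hLv.2.1 ▸ h2 w₁ (LinearMap.mem_ker.2 hw₁),
        hLv.2.2 ▸ h2 w₂ (LinearMap.mem_ker.2 hw₂)⟩
    · obtain ⟨z, hz, hz'⟩ := hG.nonT ((-3 / c₀) • L)
      refine absurd ?_ hz'
      rw [LinearMap.smul_apply, smul_eq_mul]
      field_simp
      linear_combination h1 z (LinearMap.mem_ker.2 hz)
  have hq0 : q ≠ 0 := fun h => by
    have := (hindep 0 1 0 (by simp [h])).2.1
    exact one_ne_zero this
  let b : k → V := fun ν => (-g.eval ν) • a + q.eval ν • y ν
  have hb0 : ∀ ν, F.f (b ν) = 0 := fun ν => by simp only [b, hsec]; ring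
  have hbT : ∀ ν, F.T a a (b ν) = 0 := fun ν => by simp [b, hy, T_aab, hG.zero]
  have hba : ∀ ν, 3 * F.T (b ν) (b ν) a = q.eval ν ^ 3 := fun ν => by
    have h1 : F.T a a a = 0 := hG.zero
    have h2 := hy ν
    rw [F.s13]
    simp only [b, map_add, map_smul, LinearMap.add_apply, LinearMap.smul_apply, smul_eq_mul, h1, h2,
      F.s23 a (y ν) a]
    linear_combination q.eval ν ^ 2 * hq ν
  have hplane : ∀ h : V →ₗ[k] k, {ν | h (b ν) = 0}.Infinite → ∀ z, F.T a a z = 0 → h z = 0 := by
    intro h hinf z hz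
    have hid : C (-(h a)) * g + q * (C (h w₁) + C (h w₂) * X) = 0 :=
      Polynomial.eq_zero_of_infinite_isRoot _ (hinf.mono fun ν hν => by
        simp only [Set.mem_ofPred_eq] at hν ⊢
        simp [b, y, Polynomial.IsRoot] at hν ⊢
        linear_combination hν)
    obtain ⟨h1, h2, h3⟩ := hindep _ _ _ hid
    rw [hdec z hz]
    simp [neg_eq_zero.1 h1, h2, h3]
  have hflex : {ν | q.eval ν ≠ 0 ∧ ∀ z, F.T (b ν) (b ν) z = 0 → F.T (b ν) z z = 0}.Finite := by
    by_contra hinf
    let e := Set.Infinite.natEmbedding _ hinf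
    have hex : ∀ i : Fin 4, ∃ (c₁ c₂ κ : k), κ ≠ 0 ∧
        ∀ ν, κ * (ν - (e i : k)) ^ 3 = g.eval ν + q.eval ν * (c₁ + c₂ * ν) := by
      intro i
      obtain ⟨hlam, hz⟩ := (e i).2
      set l : k := (e i : k)
      have hTa : F.T (b l) (b l) a ≠ 0 := fun h => by
        have := hba l
        rw [h, mul_zero] at this
        exact pow_ne_zero 3 hlam this.symm
      set ξ : k := -F.T (b l) (b l) w₂ / F.T (b l) (b l) a
      set d : V := ξ • a + w₂
      have hd : F.T (b l) (b l) d = 0 := by
        simp [d, ξ, div_mul_cancel₀ _ hTa]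
      refine ⟨-g.eval l / q.eval l - ξ * l, ξ, F.f d, ?_, ?_⟩
      swap
      · intro ν
        set δ : k := ν - l with hδ
        have h1 : b l + (q.eval l * δ) • d = (-g.eval l + q.eval l * δ * ξ) • a + q.eval l • y ν := by
          simp only [b, d, y, hδ]
          module
        have h2 := congrArg F.f h1
        rw [hsec, F.f_add_smul, hb0, hd, hz d hd] at h2
        refine mul_left_cancel₀ (pow_ne_zero 3 hlam) ?_
        have hr : -g.eval l / q.eval l * q.eval l = -g.eval l := div_mul_cancel₀ _ hlam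
        linear_combination h2 - q.eval l ^ 2 * q.eval ν * hr
      · intro h0
        have hid : C 1 * g + q * (C (-g.eval l / q.eval l - ξ * l) + C ξ * X) = 0 := by
          refine Polynomial.funext fun ν => ?_
          set δ : k := ν - l with hδ
          have h1 : b l + (q.eval l * δ) • d =
              (-g.eval l + q.eval l * δ * ξ) • a + q.eval l • y ν := by
            simp only [b, d, y, hδ]
            module
          have h2 := congrArg F.f h1
          rw [hsec, F.f_add_smul, hb0, hd, hz d hd, h0] at h2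
          simp only [Polynomial.eval_add, Polynomial.eval_mul, Polynomial.eval_C,
            Polynomial.eval_X, Polynomial.eval_zero, one_mul]
          refine mul_left_cancel₀ (pow_ne_zero 3 hlam) ?_
          have hr : -g.eval l / q.eval l * q.eval l = -g.eval l := div_mul_cancel₀ _ hlam
          linear_combination -h2 + q.eval l ^ 2 * q.eval ν * hr
        exact one_ne_zero (hindep _ _ _ hid).1
    choose c₁ c₂ κ hκ hid using hex
    have hdep : ¬ LinearIndependent k (fun i => ![1 / κ i, c₁ i / κ i, c₂ i / κ i]) := fun h => by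
      simpa using h.fintype_card_le_finrank
    obtain ⟨μ, hμ, i, hi⟩ := Fintype.not_linearIndependent_iff.1 hdep
    have hS : ∀ ν : k, ∑ j, μ j * (ν - (e j : k)) ^ 3 = 0 := by
      intro ν
      have h0 := congrFun hμ 0
      have h1 := congrFun hμ 1
      have h2 := congrFun hμ 2
      simp [Finset.sum_apply] at h0 h1 h2
      have : ∀ j, μ j * (ν - (e j : k)) ^ 3 = g.eval ν * (μ j * (κ j)⁻¹) +
          q.eval ν * (μ j * (c₁ j / κ j)) + q.eval ν * ν * (μ j * (c₂ j / κ j)) := fun j => by
        have := hid j ν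
        have := hκ j
        field_simp
        linear_combination μ j * hid j ν
      simp only [this, Finset.sum_add_distrib, ← Finset.mul_sum, h0, h1, h2]
      ring
    have hM := Matrix.eq_zero_of_forall_pow_sum_mul_pow_eq_zero
      (f := fun j : Fin 4 => (e j : k)) (v := μ) (fun x y hxy => by
        exact Fin.val_injective (e.injective (Subtype.ext hxy))) (by
        have e0 := hS 0
        have e1 := hS 1
        have e2 := hS (-1)
        have e3 := hS 2
        simp only [Fin.sum_univ_four, Fin.val_zero, Fin.val_one, Fin.val_two,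
          show ((3 : Fin 4) : ℕ) = 3 from rfl] at e0 e1 e2 e3
        intro j
        fin_cases j <;> simp [Fin.sum_univ_four]
        · linear_combination (1/2 : k) * e0 - (1/2 : k) * e1 - (1/6 : k) * e2 + (1/6 : k) * e3
        · linear_combination (1/3 : k) * e0 - (1/6 : k) * e1 - (1/6 : k) * e2
        · linear_combination -(1/6 : k) * e0 + (1/3 : k) * e1 - (1/9 : k) * e2 - (1/18 : k) * e3
        · linear_combination -e0)
    exact hi (congrFun hM i)
  have htan : ∀ o, o ≠ 0 → F.T a a o = 0 →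
      {ν | q.eval ν ≠ 0 ∧ F.T (b ν) (b ν) o = 0}.Finite := by
    intro o ho hoT
    by_contra hinf
    set o₀ := B.coord 3 o
    set o₁ := B.coord 2 o
    set o₂ := B.coord 1 o
    set E : k[X] := C o₀ * q ^ 2 + C o₁ * g * q +
      (C o₂ - C o₁ * X) * (derivative g * q - g * derivative q) with hE
    have hid : E = 0 := Polynomial.eq_zero_of_infinite_isRoot _ (Set.Infinite.mono (fun ν hν => by
      obtain ⟨hν, hbo⟩ := hν
      simp only [Set.mem_ofPred_eq, Polynomial.IsRoot]
      refine (mul_eq_zero.1 (show q.eval ν * E.eval ν = 0 from ?_)).resolve_left hν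
      rw [hdec o hoT] at hbo
      have h1 : F.T a a a = 0 := hG.zero
      simp only [b, y, map_add, map_smul, LinearMap.add_apply, LinearMap.smul_apply, smul_eq_mul,
        F.s23 a w₁ a, F.s23 a w₂ a, F.s13 w₁ w₁ a, F.s13 w₂ w₂ a, F.s13 w₁ w₂ a, F.s13 w₂ w₁ a,
        F.s12 w₁ a, F.s12 w₂ a, F.s23 a w₂ w₁, F.s23 w₂ w₁ w₂, F.s12 w₂ w₁ w₂, F.s23 w₂ w₁ w₁,
        F.s12 w₂ w₁ w₁, F.s13 w₂ w₂ w₁, F.s23 w₁ w₂ w₁, h1, hw₁, hw₂] at hbo
      simp only [hE, q, g, derivative_add, derivative_C, derivative_mul, derivative_X,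
        derivative_X_pow, Polynomial.eval_add, Polynomial.eval_mul, Polynomial.eval_sub,
        Polynomial.eval_C, Polynomial.eval_X, Polynomial.eval_pow, Polynomial.eval_one,
        Polynomial.eval_zero, Sym3.f, Nat.cast_ofNat] at hbo ⊢
      linear_combination 3 * hbo) hinf)
    by_cases h1 : o₁ = 0
    · by_cases h2 : o₂ = 0
      · have h0 : o₀ ≠ 0 := fun h0 => ho (by
          rw [hdec o hoT]; simp only [o₀, o₁, o₂] at h0 h1 h2; simp only [h0, h1, h2]; simp)
        rw [hE, h1, h2] at hid
        simp [h0, hq0] at hid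
      · obtain ⟨κ, hκ⟩ := wronskian (G := C o₂ * g + C o₀ * X * q) hq0 (by
          rw [hE, h1] at hid
          simp only [map_zero, zero_mul, add_zero, sub_zero] at hid
          simp only [derivative_add, derivative_mul, derivative_C, derivative_X]
          linear_combination hid)
        exact h2 (hindep o₂ (-κ) o₀ (by simp only [map_neg]; linear_combination hκ)).1
    · have hW : q * (C o₂ - C o₁ * X) ≠ 0 := mul_ne_zero hq0 fun h => h1 (by
        simpa using congrArg (fun p => p.coeff 1) h)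
      obtain ⟨κ, hκ⟩ := wronskian (G := C o₁ * g + C o₀ * q) hW (by
        rw [hE] at hid
        simp only [derivative_add, derivative_sub, derivative_mul, derivative_C, derivative_X]
        linear_combination C o₁ * hid)
      exact h1 (hindep o₁ (o₀ - κ * o₂) (κ * o₁) (by
        simp only [map_sub, map_mul]; linear_combination hκ)).1
  -- pigeonhole
  have hGinf : {ν : k | q.eval ν ≠ 0}.Infinite :=
    ((Polynomial.finite_setOf_isRoot hq0).infinite_compl).mono fun ν hν => hν
  have hch : ∀ ν : {ν : k | q.eval ν ≠ 0}, ∃ h : s, ∀ z, F.T (b ν) (b ν) z = 0 →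
      F.f z * (h : V →ₗ[k] k) (b ν) = 3 * ((h : V →ₗ[k] k) z * F.T (b ν) z z) := fun ν => by
    obtain ⟨h, hh, h0⟩ := covered_section F (hb0 ν) s fun x hx _ => hcov x hx
    exact ⟨⟨h, hh⟩, h0⟩
  choose hf hhf using hch
  haveI := hGinf.to_subtype
  obtain ⟨⟨h, hh⟩, hinf⟩ := Finite.exists_infinite_fiber hf
  rw [Set.infinite_coe_iff] at hinf
  set Λ := Subtype.val '' (hf ⁻¹' {⟨h, hh⟩}) with hΛdef
  have hΛ : Λ.Infinite := hinf.image Subtype.val_injective.injOn
  have hΛ' : ∀ ν ∈ Λ, q.eval ν ≠ 0 ∧ ∀ z, F.T (b ν) (b ν) z = 0 →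
      F.f z * h (b ν) = 3 * (h z * F.T (b ν) z z) := by
    rintro _ ⟨ν, hν, rfl⟩
    refine ⟨ν.2, fun z hz => ?_⟩
    have := hhf ν z hz
    rwa [show hf ν = ⟨h, hh⟩ from hν] at this
  have hTb : ∀ ν, q.eval ν ≠ 0 → F.T (b ν) (b ν) a ≠ 0 := fun ν hν h0 => by
    have := hba ν
    rw [h0, mul_zero] at this
    exact pow_ne_zero 3 hν this.symm
  have hker : ∀ ν, q.eval ν ≠ 0 → finrank k (LinearMap.ker (F.T (b ν) (b ν))) = 3 := fun ν hν => by
    have := finrank_ker_add_one (h := F.T (b ν) (b ν)) fun h0 => hTb ν hν (by rw [h0]; rfl)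
    omega
  by_cases hcase : {ν ∈ Λ | h (b ν) = 0}.Infinite
  · have ha0 := hplane h (hcase.mono fun ν hν => hν.2) a (LinearMap.mem_ker.1 haT)
    obtain ⟨ν, ⟨hνΛ, hν0⟩, hνf⟩ := (hcase.sdiff hflex).nonempty
    obtain ⟨hqν, hid⟩ := hΛ' ν hνΛ
    have hle : LinearMap.ker (F.T (b ν) (b ν)) ≤ LinearMap.ker h := by
      rcases PolyFun.mul_eq_zero_on (PolyFun.linear h) (PolyFun.quadratic F (b ν))
        (LinearMap.ker (F.T (b ν) (b ν))) (fun z hz => by
          have := hid z (LinearMap.mem_ker.1 hz)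
          rw [hν0, mul_zero] at this
          exact (mul_eq_zero.1 this.symm).resolve_left (by norm_num)) with h1 | h1
      · exact fun z hz => LinearMap.mem_ker.2 (h1 z hz)
      · exact absurd ⟨hqν, fun z hz => h1 z (LinearMap.mem_ker.2 hz)⟩ hνf
    have heq := Submodule.eq_of_le_of_finrank_eq hle (by
      have := finrank_ker_add_one (hs h hh); have := hker ν hqν; omega)
    refine hTb ν hqν ?_
    have : a ∈ LinearMap.ker h := ha0
    rw [← heq] at this
    exact LinearMap.mem_ker.1 this
  · have hΛ2 : (Λ \ {ν ∈ Λ | h (b ν) = 0}).Infinite := hΛ.sdiff (Set.not_infinite.1 hcase)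
    obtain ⟨x, hx, hfx⟩ := hP h
    have hH : finrank k (LinearMap.ker h) = 3 := by have := finrank_ker_add_one (hs h hh); omega
    have hfin := finite_lines_in_plane F hH (LinearMap.mem_ker.2 hx) hfx
    let m : k → Submodule k V := fun ν => LinearMap.ker (F.T (b ν) (b ν)) ⊓ LinearMap.ker h
    have hm : Set.MapsTo m (Λ \ {ν ∈ Λ | h (b ν) = 0}) {m | IsLine F m ∧ m ≤ LinearMap.ker h} := by
      rintro ν ⟨hνΛ, hν⟩
      have hν0 : h (b ν) ≠ 0 := fun h0 => hν ⟨hνΛ, h0⟩
      obtain ⟨hqν, hid⟩ := hΛ' ν hνΛ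
      refine ⟨⟨?_, fun u hu => ?_⟩, inf_le_right⟩
      · have h1 := Submodule.finrank_sup_add_finrank_inf_eq (LinearMap.ker (F.T (b ν) (b ν)))
          (LinearMap.ker h)
        have h2 : LinearMap.ker (F.T (b ν) (b ν)) ⊔ LinearMap.ker h ≠ LinearMap.ker h := by
          intro h0
          refine hν0 (LinearMap.mem_ker.1 ((sup_eq_right.1 h0) ?_))
          rw [LinearMap.mem_ker]
          exact hb0 ν
        have h3 := Submodule.finrank_lt_finrank_of_lt
          (lt_of_le_of_ne le_sup_right (Ne.symm h2))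
        have h4' := Submodule.finrank_le
          (LinearMap.ker (F.T (b ν) (b ν)) ⊔ LinearMap.ker h)
        have := hker ν hqν
        change finrank k ↥(LinearMap.ker (F.T (b ν) (b ν)) ⊓ LinearMap.ker h) = 2
        omega
      · have := hid u (LinearMap.mem_ker.1 hu.1)
        rw [LinearMap.mem_ker.1 hu.2, zero_mul, mul_zero] at this
        exact (mul_eq_zero.1 this).resolve_right hν0
    obtain ⟨ν₀, hν₀, hinf'⟩ : ∃ ν₀ ∈ Λ \ {ν ∈ Λ | h (b ν) = 0},
        {ν ∈ Λ \ {ν ∈ Λ | h (b ν) = 0} | m ν = m ν₀}.Infinite := by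
      by_contra hc
      push Not at hc
      refine hΛ2 (Set.Finite.subset (Set.Finite.biUnion hfin (t := fun U =>
        {ν ∈ Λ \ {ν ∈ Λ | h (b ν) = 0} | m ν = U}) fun U _ => ?_) fun ν hν => ?_)
      · by_cases hU : ∃ ν ∈ Λ \ {ν ∈ Λ | h (b ν) = 0}, m ν = U
        · obtain ⟨ν, hν, rfl⟩ := hU
          exact hc ν hν
        · push Not at hU
          exact Set.Finite.subset Set.finite_empty fun ν hν => hU ν hν.1 hν.2
      · exact Set.mem_biUnion (hm hν) ⟨hν, rfl⟩
    obtain ⟨o, hom, hoT, ho⟩ := exists_ne_zero_mem_inf (le_top : m ν₀ ≤ ⊤)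
      (le_top : LinearMap.ker (F.T a a) ≤ ⊤) (by
        rw [(hm hν₀).1.1, hT3, finrank_top, h4]; norm_num)
    refine hinf' ((htan o ho (LinearMap.mem_ker.1 hoT)).subset fun ν hν => ?_)
    refine ⟨(hΛ' ν hν.1.1).1, ?_⟩
    rw [← hν.2] at hom
    exact LinearMap.mem_ker.1 hom.1

end Groth.Agent.Cubic51
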