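import Mathlib.Algebra.MvPolynomial.Equiv
import Mathlib.RingTheory.MvPolynomial.Symmetric.Defs
import Mathlib.RingTheory.Polynomial.UniqueFactorization
import Mathlib.RingTheory.Polynomial.Basic
import Mathlib.RingTheory.Localization.FractionRing
import Mathlib.RingTheory.Ideal.Quotient.Basic
import Mathlib.FieldTheory.IsAlgClosed.Basic
import Mathlib.Algebra.Polynomial.RingDivision
import Mathlib.RingTheory.Polynomial.Content
import Mathlib.Tactic.ComputeDegree
import Mathlib.Tactic.LinearCombination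
import Mathlib.Tactic.FieldSimp

/-!
The ideal of the second and fourth elementary symmetric polynomials in five variables is prime.

Write the five variables as `Y`, `X` and `x, y, z`. Then `σ₂ = e₁ Y + e₂` and `σ₄ = e₃ Y + e₄` with
`eᵢ` the elementary symmetric polynomials of `X, x, y, z`. The quartic `e₁ e₄ - e₂ e₃` is
irreducible and `e₁` is regular modulo `(σ₂, σ₄)`, so the ideal is the kernel of the map to the
function field of the quartic sending `Y` to `-e₂ / e₁`.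
-/

set_option autoImplicit false

namespace Groth.Agent.Cubic51.Esymm

open Polynomial

/-- A quadratic with no common factor and nonsquare discriminant is irreducible. -/
lemma irreducible_quadratic {R : Type*} [CommRing R] [IsDomain R] {a b c : R} (ha : a ≠ 0)
    (hrel : ∀ r, r ∣ a → r ∣ b → r ∣ c → IsUnit r) (hd : ∀ h : R, h ^ 2 ≠ b ^ 2 - 4 * a * c) :
    Irreducible (C a * X ^ 2 + C b * X + C c) where
  not_isUnit h := by
    have := natDegree_eq_zero_of_isUnit h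
    rw [natDegree_quadratic ha] at this
    omega
  isUnit_or_isUnit := by
    intro f g hfg
    have hne : C a * X ^ 2 + C b * X + C c ≠ 0 := fun h0 => by
      have := natDegree_quadratic (b := b) (c := c) ha
      rw [h0, natDegree_zero] at this
      omega
    have hf : f ≠ 0 := left_ne_zero_of_mul (hfg ▸ hne)
    have hg : g ≠ 0 := right_ne_zero_of_mul (hfg ▸ hne)
    have hdeg : f.natDegree + g.natDegree = 2 := by
      rw [← natDegree_mul hf hg, ← hfg, natDegree_quadratic ha]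
    have hconst : ∀ f g : R[X], C a * X ^ 2 + C b * X + C c = f * g → f.natDegree = 0 → IsUnit f := by
      intro f g hfg h0
      rw [eq_C_of_natDegree_eq_zero h0] at hfg ⊢
      have hco : ∀ n, f.coeff 0 ∣ (C a * X ^ 2 + C b * X + C c).coeff n := fun n => by
        rw [hfg, coeff_C_mul]; exact dvd_mul_right _ _
      refine isUnit_C.2 (hrel _ ?_ ?_ ?_)
      · have := hco 2; simpa [coeff_X, coeff_C] using this
      · have := hco 1; simpa [coeff_X, coeff_C] using this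
      · have := hco 0; simpa [coeff_X, coeff_C] using this
    rcases Nat.eq_zero_or_pos f.natDegree with h0 | h0
    · exact .inl (hconst f g hfg h0)
    rcases Nat.eq_zero_or_pos g.natDegree with h1 | h1
    · exact .inr (hconst g f (hfg.trans (mul_comm f g)) h1)
    exfalso
    rw [eq_X_add_C_of_natDegree_le_one (show f.natDegree ≤ 1 by omega),
      eq_X_add_C_of_natDegree_le_one (show g.natDegree ≤ 1 by omega)] at hfg
    have e2 := congrArg (fun p => p.coeff 2) hfg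
    have e1 := congrArg (fun p => p.coeff 1) hfg
    have e0 := congrArg (fun p => p.coeff 0) hfg
    simp [coeff_mul, Finset.antidiagonal, Finset.Nat.antidiagonal_succ, coeff_X, coeff_C] at e2 e1 e0
    exact hd (f.coeff 1 * g.coeff 0 - f.coeff 0 * g.coeff 1) (by rw [e2, e1, e0]; ring)

variable (k : Type*) [Field k]

local notation "A" => MvPolynomial (Fin 3) k

noncomputable def s₁ : A := MvPolynomial.X 0 + MvPolynomial.X 1 + MvPolynomial.X 2

noncomputable def s₂ : A := MvPolynomial.X 0 * MvPolynomial.X 1 +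
  MvPolynomial.X 0 * MvPolynomial.X 2 + MvPolynomial.X 1 * MvPolynomial.X 2

noncomputable def s₃ : A := MvPolynomial.X 0 * MvPolynomial.X 1 * MvPolynomial.X 2

lemma fin3_one : (1 : Fin 3) = Fin.succ 0 := rfl
lemma fin3_two : (2 : Fin 3) = Fin.succ 1 := rfl
lemma fin2_one : (1 : Fin 2) = Fin.succ 0 := rfl

variable [IsAlgClosed k] [CharZero k]

omit [IsAlgClosed k] [CharZero k] in
lemma irreducible_s₂ : Irreducible (s₂ k) := by
  have hlin : Irreducible (MvPolynomial.X 0 + MvPolynomial.X 1 : MvPolynomial (Fin 2) k) := by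
    refine Irreducible.of_map (f := MvPolynomial.finSuccEquiv k 1) ?_
    rw [map_add, MvPolynomial.finSuccEquiv_X_zero, fin2_one, MvPolynomial.finSuccEquiv_X_succ]
    have := irreducible_X_sub_C (-(MvPolynomial.X 0 : MvPolynomial (Fin 1) k))
    rwa [map_neg, sub_neg_eq_add] at this
  refine Irreducible.of_map (f := MvPolynomial.finSuccEquiv k 2) ?_
  simp only [s₂, map_add, map_mul, fin3_one, fin3_two, MvPolynomial.finSuccEquiv_X_zero,
    MvPolynomial.finSuccEquiv_X_succ]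
  rw [show (X * C (MvPolynomial.X 0) + X * C (MvPolynomial.X 1) +
      C (MvPolynomial.X 0) * C (MvPolynomial.X 1) : (MvPolynomial (Fin 2) k)[X]) =
      C (MvPolynomial.X 0 + MvPolynomial.X 1) * X + C (MvPolynomial.X 0 * MvPolynomial.X 1) by
    simp; ring]
  refine irreducible_C_mul_X_add_C hlin.ne_zero ((hlin.isRelPrime_iff_not_dvd).2 fun h => ?_)
  obtain ⟨c, hc⟩ := h
  have := congrArg (MvPolynomial.eval ![1, -1]) hc
  simp at this

omit [IsAlgClosed k] in
lemma irreducible_q : Irreducible (s₁ k ^ 2 - s₂ k) := by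
  refine Irreducible.of_map (f := MvPolynomial.finSuccEquiv k 2) ?_
  simp only [s₁, s₂, map_sub, map_pow, map_add, map_mul, fin3_one, fin3_two,
    MvPolynomial.finSuccEquiv_X_zero, MvPolynomial.finSuccEquiv_X_succ]
  rw [show ((X + C (MvPolynomial.X 0) + C (MvPolynomial.X 1)) ^ 2 -
      (X * C (MvPolynomial.X 0) + X * C (MvPolynomial.X 1) +
        C (MvPolynomial.X 0) * C (MvPolynomial.X 1)) : (MvPolynomial (Fin 2) k)[X]) =
      C 1 * X ^ 2 + C (MvPolynomial.X 0 + MvPolynomial.X 1) * X +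
        C (MvPolynomial.X 0 ^ 2 + MvPolynomial.X 1 ^ 2 + MvPolynomial.X 0 * MvPolynomial.X 1) by
    simp; ring]
  refine irreducible_quadratic one_ne_zero (fun r hr _ _ => isUnit_of_dvd_one hr) fun h hh => ?_
  have hh' := congrArg (MvPolynomial.aeval ![(X : k[X]), 1]) hh
  simp at hh'
  generalize MvPolynomial.aeval ![(X : k[X]), 1] h = H at hh'
  have h0 := congrArg (fun p => p.coeff 0) hh'
  have h1 := congrArg (fun p => p.coeff 1) hh'
  have h2 := congrArg (fun p => p.coeff 2) hh'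
  have hd : H.natDegree ≤ 1 := by
    have h' := congrArg natDegree hh'
    rw [natDegree_pow] at h'
    have : (((X : k[X]) + 1) ^ 2 - 4 * (X ^ 2 + 1 + X)).natDegree ≤ 2 := by compute_degree
    omega
  rw [eq_X_add_C_of_natDegree_le_one hd] at h0 h1 h2
  simp [pow_two, coeff_mul, Finset.Nat.antidiagonal_succ, coeff_X, coeff_one] at h0 h1 h2
  have : (8 : k) * 4 = 0 := by
    linear_combination (H.coeff 1 * H.coeff 0 + H.coeff 0 * H.coeff 1 - 2) * h1 - 4 * (H.coeff 0 * H.coeff 0) * h2 - 4 * (-3 : k) * h0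
  norm_num at this

omit [IsAlgClosed k] [CharZero k] in
lemma not_dvd_s₃ (h2 : (2 : k) ≠ 0) : ¬ s₂ k ∣ s₃ k := by
  rintro ⟨c, hc⟩
  have := congrArg (MvPolynomial.eval ![2, 2, -1]) hc
  simp only [s₂, s₃, map_mul, map_add, MvPolynomial.eval_X, Matrix.cons_val_zero,
    Matrix.cons_val_one, Matrix.cons_val] at this
  exact mul_ne_zero h2 h2 (by linear_combination -this)

omit [CharZero k] in
lemma not_dvd_e₃ : ¬ s₁ k ^ 2 - s₂ k ∣ s₃ k - s₁ k * s₂ k := by
  rintro ⟨c, hc⟩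
  obtain ⟨r, hr⟩ := IsAlgClosed.exists_root (C (1 : k) * X ^ 2 + C 1 * X + C 1)
    (by rw [degree_quadratic one_ne_zero]; decide)
  simp [IsRoot] at hr
  have := congrArg (MvPolynomial.eval ![r, 1, 0]) hc
  simp only [s₁, s₂, s₃, map_sub, map_pow, map_mul, map_add, MvPolynomial.eval_X,
    Matrix.cons_val_zero, Matrix.cons_val_one, Matrix.cons_val] at this
  exact one_ne_zero (α := k) (by
    linear_combination this + (1 + MvPolynomial.eval ![r, 1, 0] c) * hr)

omit [IsAlgClosed k] in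
lemma irreducible_quartic :
    Irreducible (C (s₃ k - s₁ k * s₂ k) * X ^ 2 + C (-(s₂ k) ^ 2) * X + C (-(s₂ k * s₃ k))) := by
  have hs := irreducible_s₂ k
  have hp : Prime (s₂ k) := irreducible_iff_prime.1 hs
  have h3 := not_dvd_s₃ k two_ne_zero
  have ha : ¬ s₂ k ∣ s₃ k - s₁ k * s₂ k := fun h => h3 (by
    simpa using dvd_add h (dvd_mul_left (s₂ k) (s₁ k)))
  refine irreducible_quadratic (fun h0 => ha (h0 ▸ dvd_zero _)) (fun r hr hb _ => ?_) fun h hh => ?_
  · have hrel : IsRelPrime ((s₂ k) ^ 2) (s₃ k - s₁ k * s₂ k) :=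
      ((hs.isRelPrime_iff_not_dvd).2 ha).pow_left
    exact hrel (dvd_neg.1 hb) hr
  · obtain ⟨h', rfl⟩ : s₂ k ∣ h := hp.dvd_of_dvd_pow (n := 2) ⟨(s₂ k) ^ 3 +
      4 * (s₃ k - s₁ k * s₂ k) * s₃ k, by rw [hh]; ring⟩
    have : s₂ k * h' ^ 2 = (s₂ k) ^ 3 + 4 * (s₃ k - s₁ k * s₂ k) * s₃ k :=
      mul_left_cancel₀ hs.ne_zero (by linear_combination hh)
    have h4 : s₂ k ∣ 4 * (s₃ k) ^ 2 :=
      ⟨h' ^ 2 - (s₂ k) ^ 2 + 4 * s₁ k * s₃ k, by linear_combination -this⟩
    refine h3 (hp.dvd_of_dvd_pow (n := 2) ((IsUnit.dvd_mul_left ?_).1 h4))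
    exact (map_ofNat (MvPolynomial.C (σ := Fin 3) (R := k)) 4) ▸
      (IsUnit.map MvPolynomial.C (isUnit_iff_ne_zero.2 (by norm_num : (4 : k) ≠ 0)))

section Generic

variable {R : Type*} [CommRing R] [IsDomain R] (t₁ t₂ t₃ : R)

noncomputable def e₁ : R[X] := X + C t₁
noncomputable def e₂ : R[X] := C t₁ * X + C t₂
noncomputable def e₃ : R[X] := C t₂ * X + C t₃
noncomputable def e₄ : R[X] := C t₃ * X
noncomputable def σ₂ : R[X][X] := C (e₁ t₁) * X + C (e₂ t₁ t₂)
noncomputable def σ₄ : R[X][X] := C (e₃ t₂ t₃) * X + C (e₄ t₃)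

omit [IsDomain R] in
lemma quartic_eq : e₁ t₁ * e₄ t₃ - e₂ t₁ t₂ * e₃ t₂ t₃ =
    C (t₃ - t₁ * t₂) * X ^ 2 + C (-t₂ ^ 2) * X + C (-(t₂ * t₃)) := by
  simp [e₁, e₂, e₃, e₄]
  ring

/-- The sum `e₁` is regular modulo the two equations. -/
lemma cancel_e₁ (hq : Prime (t₂ - t₁ ^ 2)) (hnd : ¬ t₂ - t₁ ^ 2 ∣ t₃ - t₁ * t₂) {P : R[X][X]}
    (hP : C (e₁ t₁) * P ∈ Ideal.span {σ₂ t₁ t₂, σ₄ t₂ t₃}) :
    P ∈ Ideal.span {σ₂ t₁ t₂, σ₄ t₂ t₃} := by
  obtain ⟨a, b, hab⟩ := Ideal.mem_span_pair.1 hP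
  let π : R[X][X] →+* R[X] := mapRingHom (evalRingHom (-t₁))
  have hπ1 : π (C (e₁ t₁)) = 0 := by simp [π, e₁]
  have hπ2 : π (σ₂ t₁ t₂) = C (t₂ - t₁ ^ 2) := by
    simp [π, σ₂, e₁, e₂]; ring
  have hπ4 : π (σ₄ t₂ t₃) = C (t₃ - t₁ * t₂) * X + C (-(t₁ * t₃)) := by
    simp [π, σ₄, e₃, e₄]; ring
  have hker : ∀ Q, π Q = 0 → C (e₁ t₁) ∣ Q := fun Q hQ => by
    rw [C_dvd_iff_dvd_coeff]
    intro n
    have h := congrArg (fun p => p.coeff n) hQ
    simp [π] at h
    have := dvd_iff_isRoot.2 (show IsRoot (Q.coeff n) (-t₁) from h)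
    rwa [map_neg, sub_neg_eq_add] at this
  have hp : Prime (C (t₂ - t₁ ^ 2)) := prime_C_iff.2 hq
  have h0 := congrArg π hab
  rw [map_add, map_mul, map_mul, map_mul, hπ1, zero_mul, hπ2] at h0
  have hnd' : ¬ C (t₂ - t₁ ^ 2) ∣ π (σ₄ t₂ t₃) := fun h => by
    rw [C_dvd_iff_dvd_coeff] at h
    have h1 := h 1
    rw [hπ4] at h1
    simp [coeff_C] at h1
    exact hnd h1
  obtain ⟨c, hc⟩ := (hp.dvd_or_dvd (a := π b) (b := π (σ₄ t₂ t₃))
    ⟨-(π a), by linear_combination h0⟩).resolve_right hnd'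
  have hca : π a = -(c * π (σ₄ t₂ t₃)) := mul_right_cancel₀ hp.ne_zero (by
    rw [hc] at h0; linear_combination h0)
  set c' : R[X][X] := c.map C
  have hc' : π c' = c := by
    simp only [π, c', coe_mapRingHom, Polynomial.map_map]
    rw [show (evalRingHom (-t₁)).comp C = RingHom.id R from RingHom.ext fun x => by simp,
      Polynomial.map_id]
  obtain ⟨a', ha'⟩ := hker (a + c' * σ₄ t₂ t₃) (by rw [map_add, map_mul, hc', hca]; ring)
  obtain ⟨b', hb'⟩ := hker (b - c' * σ₂ t₁ t₂) (by rw [map_sub, map_mul, hc', hc, hπ2]; ring)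
  refine Ideal.mem_span_pair.2 ⟨a', b', mul_left_cancel₀ (a := C (e₁ t₁)) ?_ ?_⟩
  · rw [Ne, C_eq_zero]; exact (monic_X_add_C _).ne_zero
  · linear_combination hab - σ₂ t₁ t₂ * ha' - σ₄ t₂ t₃ * hb'

/-- The two equations generate a prime ideal. -/
theorem isPrime_span (hq : Prime (t₂ - t₁ ^ 2)) (hnd : ¬ t₂ - t₁ ^ 2 ∣ t₃ - t₁ * t₂)
    (ha : t₃ - t₁ * t₂ ≠ 0)
    (hG : Prime (C (t₃ - t₁ * t₂) * X ^ 2 + C (-t₂ ^ 2) * X + C (-(t₂ * t₃)))) :
    (Ideal.span {σ₂ t₁ t₂, σ₄ t₂ t₃} : Ideal R[X][X]).IsPrime := by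
  set G : R[X] := e₁ t₁ * e₄ t₃ - e₂ t₁ t₂ * e₃ t₂ t₃ with hGdef
  rw [← quartic_eq, ← hGdef] at hG
  haveI : (Ideal.span {G}).IsPrime := (Ideal.span_singleton_prime hG.ne_zero).2 hG
  let K := FractionRing (R[X] ⧸ Ideal.span {G})
  let ψ : R[X] →+* K := (algebraMap _ K).comp (Ideal.Quotient.mk (Ideal.span {G}))
  have hψ : ∀ p, ψ p = 0 ↔ G ∣ p := fun p => by
    show algebraMap (R[X] ⧸ Ideal.span {G}) K (Ideal.Quotient.mk (Ideal.span {G}) p) = 0 ↔ _
    rw [map_eq_zero_iff _ (IsFractionRing.injective (R[X] ⧸ Ideal.span {G}) K),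
      Ideal.Quotient.eq_zero_iff_mem, Ideal.mem_span_singleton]
  have he1 : ψ (e₁ t₁) ≠ 0 := fun h => by
    have hd := natDegree_le_of_dvd ((hψ _).1 h) (monic_X_add_C _).ne_zero
    rw [hGdef, quartic_eq, natDegree_quadratic ha, e₁, natDegree_X_add_C] at hd
    omega
  let φ : R[X][X] →+* K := eval₂RingHom ψ (-(ψ (e₂ t₁ t₂) / ψ (e₁ t₁)))
  have hσ2 : φ (σ₂ t₁ t₂) = 0 := by
    simp [φ, σ₂]
    rw [mul_neg, mul_div_cancel₀ _ he1, neg_add_cancel]
  have hσ4 : φ (σ₄ t₂ t₃) = 0 := by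
    have h0 : ψ (e₁ t₁ * e₄ t₃ - e₂ t₁ t₂ * e₃ t₂ t₃) = 0 := (hψ _).2 dvd_rfl
    rw [map_sub, map_mul, map_mul] at h0
    simp [φ, σ₄]
    refine (mul_eq_zero.1 (?_ : ψ (e₁ t₁) * _ = 0)).resolve_left he1
    rw [mul_add, mul_left_comm, mul_neg (ψ (e₁ t₁)), mul_div_cancel₀ _ he1]
    linear_combination h0
  set I : Ideal R[X][X] := Ideal.span {σ₂ t₁ t₂, σ₄ t₂ t₃}
  have hGI : C G ∈ I := by
    have : C G = C (e₁ t₁) * σ₄ t₂ t₃ - C (e₃ t₂ t₃) * σ₂ t₁ t₂ := by
      simp [hGdef, σ₂, σ₄]; ring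
    rw [this]
    exact sub_mem (I.mul_mem_left _ (Ideal.subset_span (by simp)))
      (I.mul_mem_left _ (Ideal.subset_span (by simp)))
  have hred : ∀ P : R[X][X], ∃ (n : ℕ) (p : R[X]), C (e₁ t₁) ^ n * P - C p ∈ I := by
    intro P
    induction P using Polynomial.induction_on with
    | C a => exact ⟨0, a, by simp⟩
    | add P Q hP hQ =>
      obtain ⟨n, p, hp⟩ := hP
      obtain ⟨m, q, hq⟩ := hQ
      refine ⟨n + m, e₁ t₁ ^ m * p + e₁ t₁ ^ n * q, ?_⟩
      have := add_mem (I.mul_mem_left (C (e₁ t₁) ^ m) hp) (I.mul_mem_left (C (e₁ t₁) ^ n) hq)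
      convert this using 1
      simp; ring
    | monomial n a h =>
      obtain ⟨m, p, hp⟩ := h
      refine ⟨m + 1, -(p * e₂ t₁ t₂), ?_⟩
      have := add_mem (I.mul_mem_left (C (e₁ t₁) * X) hp)
        (I.mul_mem_left (C p) (Ideal.subset_span
          (show σ₂ t₁ t₂ ∈ ({σ₂ t₁ t₂, σ₄ t₂ t₃} : Set R[X][X]) by simp)))
      convert this using 1
      simp [σ₂]; ring
  have hle : I ≤ RingHom.ker φ := Ideal.span_le.2 (by
    rintro x (rfl | rfl) <;> [exact hσ2; exact hσ4])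
  have hkey : RingHom.ker φ = I := by
    refine le_antisymm (fun P hP => ?_) hle
    rw [RingHom.mem_ker] at hP
    obtain ⟨n, p, hp⟩ := hred P
    have h0 : φ (C (e₁ t₁) ^ n * P - C p) = 0 := hle hp
    rw [map_sub, map_mul, hP, mul_zero, zero_sub, neg_eq_zero] at h0
    obtain ⟨g, hg⟩ := (hψ p).1 (by simpa [φ] using h0)
    have hmem : C (e₁ t₁) ^ n * P ∈ I := by
      have := add_mem hp (show C p ∈ I by rw [hg, map_mul]; exact I.mul_mem_right _ hGI)
      simpa using this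
    clear hp hP h0
    induction n with
    | zero => simpa using hmem
    | succ n ih => exact ih (cancel_e₁ t₁ t₂ t₃ hq hnd (by rwa [← mul_assoc, ← pow_succ']))
  exact hkey ▸ RingHom.ker_isPrime φ

end Generic

/-- The ideal of `σ₂, σ₄` in five variables is prime. -/
theorem isPrime_esymm :
    (Ideal.span ({MvPolynomial.esymm (Fin 5) k 2, MvPolynomial.esymm (Fin 5) k 4} :
      Set (MvPolynomial (Fin 5) k))).IsPrime := by
  let e : MvPolynomial (Fin 5) k ≃ₐ[k] A[X][X] :=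
    (MvPolynomial.finSuccEquiv k 4).trans (Polynomial.mapAlgEquiv (MvPolynomial.finSuccEquiv k 3))
  have hs : ∀ (n : ℕ) (j : Fin n), MvPolynomial.finSuccEquiv k n (MvPolynomial.X j.succ) =
      C (MvPolynomial.X j) := fun n j => MvPolynomial.finSuccEquiv_X_succ
  have happ : ∀ x, e x = (MvPolynomial.finSuccEquiv k 4 x).map
      (MvPolynomial.finSuccEquiv k 3 : MvPolynomial (Fin 4) k →+* A[X]) := fun x => rfl
  have h0 : e (MvPolynomial.X 0) = X := by
    rw [happ, MvPolynomial.finSuccEquiv_X_zero, Polynomial.map_X]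
  have h1 : e (MvPolynomial.X 1) = C X := by
    rw [happ, show (MvPolynomial.X 1 : MvPolynomial (Fin 5) k) = MvPolynomial.X (Fin.succ 0) from rfl,
      hs, Polynomial.map_C]
    exact congrArg C MvPolynomial.finSuccEquiv_X_zero
  have hsucc : ∀ j : Fin 3, e (MvPolynomial.X j.succ.succ) = C (C (MvPolynomial.X j)) := fun j => by
    rw [happ, hs, Polynomial.map_C]
    exact congrArg C (hs 3 j)
  have h2 : e (MvPolynomial.X 2) = C (C (MvPolynomial.X 0)) := hsucc 0
  have h3 : e (MvPolynomial.X 3) = C (C (MvPolynomial.X 1)) := hsucc 1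
  have h4 : e (MvPolynomial.X 4) = C (C (MvPolynomial.X 2)) := hsucc 2
  have hσ2 : e (MvPolynomial.esymm (Fin 5) k 2) = σ₂ (s₁ k) (s₂ k) := by
    rw [MvPolynomial.esymm, show Finset.powersetCard 2 (Finset.univ : Finset (Fin 5)) =
      {{0, 1}, {0, 2}, {0, 3}, {0, 4}, {1, 2}, {1, 3}, {1, 4}, {2, 3}, {2, 4}, {3, 4}} by decide]
    simp only [map_sum, map_prod]
    repeat rw [Finset.sum_insert (by decide)]
    rw [Finset.sum_singleton]
    simp [Finset.prod_insert, h0, h1, h2, h3, h4, σ₂, e₁, e₂,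
      s₁, s₂]
    ring
  have hσ4 : e (MvPolynomial.esymm (Fin 5) k 4) = σ₄ (s₂ k) (s₃ k) := by
    rw [MvPolynomial.esymm, show Finset.powersetCard 4 (Finset.univ : Finset (Fin 5)) =
      {{0, 1, 2, 3}, {0, 1, 2, 4}, {0, 1, 3, 4}, {0, 2, 3, 4}, {1, 2, 3, 4}} by decide]
    simp only [map_sum, map_prod]
    repeat rw [Finset.sum_insert (by decide)]
    rw [Finset.sum_singleton]
    simp [Finset.prod_insert, h0, h1, h2, h3, h4, σ₄, e₃, e₄,
      s₂, s₃]
    ring
  have hq : Prime (s₂ k - s₁ k ^ 2) := by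
    exact (Associated.prime_iff ⟨-1, by simp⟩).1 (irreducible_iff_prime.1 (irreducible_q k))
  have hnd : ¬ s₂ k - s₁ k ^ 2 ∣ s₃ k - s₁ k * s₂ k := by
    rw [← neg_sub, neg_dvd]; exact not_dvd_e₃ k
  haveI := isPrime_span (s₁ k) (s₂ k) (s₃ k) hq hnd (fun h => hnd (h ▸ dvd_zero _))
    (irreducible_iff_prime.1 (irreducible_quartic k))
  have hmap : Ideal.span {MvPolynomial.esymm (Fin 5) k 2, MvPolynomial.esymm (Fin 5) k 4} =
      Ideal.comap e (Ideal.span {σ₂ (s₁ k) (s₂ k), σ₄ (s₂ k) (s₃ k)}) := by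
    refine le_antisymm (Ideal.span_le.2 ?_) fun x hx => ?_
    · rintro x (rfl | rfl) <;> rw [SetLike.mem_coe, Ideal.mem_comap]
      · rw [hσ2]; exact Ideal.subset_span (by simp)
      · rw [hσ4]; exact Ideal.subset_span (by simp)
    · rw [Ideal.mem_comap] at hx
      obtain ⟨a, b, hab⟩ := Ideal.mem_span_pair.1 hx
      exact Ideal.mem_span_pair.2 ⟨e.symm a, e.symm b, e.injective (by
        rw [map_add, map_mul, map_mul, hσ2, hσ4, e.apply_symm_apply, e.apply_symm_apply, hab])⟩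
  rw [hmap]
  exact Ideal.comap_isPrime _ _

end Groth.Agent.Cubic51.Esymm
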