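import Groth.Agent.Cubic51.Cover

/-!
Five points in general position.
-/

set_option autoImplicit false

namespace Groth.Agent.Cubic51

open Eckardt51 Module

variable {k V : Type*} [Field k] [CharZero k] [AddCommGroup V] [Module k V] [FiniteDimensional k V]

omit [CharZero k] in
lemma exists_functional {ι : Type*} [Fintype ι] (v : ι → V)
    (h : Fintype.card ι < finrank k V) : ∃ φ : V →ₗ[k] k, φ ≠ 0 ∧ ∀ i, φ (v i) = 0 := by
  have hlt : Submodule.span k (Set.range v) < ⊤ := by
    refine lt_top_iff_ne_top.2 fun htop => ?_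
    have := finrank_range_le_card (R := k) v
    rw [Set.finrank, htop, finrank_top] at this
    omega
  obtain ⟨φ, hφ, hφ0⟩ := Submodule.exists_dual_map_eq_bot_of_lt_top hlt inferInstance
  refine ⟨φ, hφ, fun i => ?_⟩
  have : φ (v i) ∈ (Submodule.span k (Set.range v)).map φ :=
    Submodule.mem_map_of_mem (Submodule.subset_span ⟨i, rfl⟩)
  simpa [hφ0] using this

/-- Five points in general position, one of them a given good point. -/
theorem five_points (F : Sym3 k V) (h4 : finrank k V = 4) (hP : NoPlane F) {a : V}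
    (hG : Good F a) : ∃ p : Fin 5 → V, p 0 = a ∧ (∀ j, F.f (p j) = 0) ∧
      ∀ j : Fin 5, LinearIndependent k (fun i : Fin 4 => p (j.succAbove i)) := by
  classical
  have ext : ∀ {n : ℕ} (v : Fin n → V), n < 4 → LinearIndependent k v →
      ∃ x, F.f x = 0 ∧ LinearIndependent k (Fin.cons x v : Fin (n + 1) → V) := by
    intro n v hn hv
    obtain ⟨φ, hφ, hφ0⟩ := exists_functional (k := k) v (by simpa [h4] using hn)
    obtain ⟨x, hx, hx'⟩ := not_covered F h4 hP hG {φ} (by simpa using hφ)
    refine ⟨x, hx, linearIndependent_finCons.2 ⟨hv, fun hmem => hx' φ (by simp) ?_⟩⟩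
    have hle : Submodule.span k (Set.range v) ≤ LinearMap.ker φ := by
      rw [Submodule.span_le]; rintro _ ⟨i, rfl⟩; exact hφ0 i
    exact hle hmem
  obtain ⟨p₁, hp₁, h2⟩ := ext ![a] (by norm_num)
    (LinearIndependent.of_subsingleton (0 : Fin 1) (by simpa using hG.ne))
  obtain ⟨p₂, hp₂, h3⟩ := ext _ (by norm_num) h2
  obtain ⟨p₃, hp₃, h4'⟩ := ext _ (by norm_num) h3
  have hli : LinearIndependent k ![p₃, p₂, p₁, a] := h4'
  let B : Basis (Fin 4) k V := basisOfLinearIndependentOfCardEqFinrank hli (by simp [h4])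
  have hB : ∀ i, B i = ![p₃, p₂, p₁, a] i := fun i => by simp [B]
  obtain ⟨x, hx, hx'⟩ := not_covered F h4 hP hG (Finset.univ.image fun i => B.coord i) (by
    simp only [Finset.mem_image, Finset.mem_univ, true_and, forall_exists_index,
      forall_apply_eq_imp_iff]
    exact fun i h => one_ne_zero (α := k) (by
      simpa using congrArg (fun φ : V →ₗ[k] k => φ (B i)) h))
  have hc : ∀ i, B.coord i x ≠ 0 := fun i => hx' _ (by simp)
  refine ⟨![a, p₁, p₂, p₃, x], rfl, fun j => ?_, fun j => ?_⟩
  · fin_cases j <;> simp [hG.zero, hp₁, hp₂, hp₃, hx]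
  refine Fintype.linearIndependent_iff.2 fun g hg => ?_
  set d : Fin 5 → k := Fin.insertNth j 0 g with hd
  have hsum : ∑ i, d i • (![a, p₁, p₂, p₃, x] : Fin 5 → V) i = 0 := by
    rw [Fin.sum_univ_succAbove _ j]
    simpa [hd] using hg
  have hcoef : ∀ i : Fin 4, d (![3, 2, 1, 0] i) + d 4 * B.coord i x = 0 := by
    have hrel : ∑ i : Fin 4, (d (![3, 2, 1, 0] i) + d 4 * B.coord i x) • B i = 0 := by
      rw [← hsum]
      simp only [add_smul, mul_smul, Finset.sum_add_distrib, ← Finset.smul_sum]
      have : ∑ i : Fin 4, B.coord i x • B i = x := B.sum_repr x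
      rw [this]
      simp [Fin.sum_univ_four, Fin.sum_univ_five, hB]
      abel
    exact Fintype.linearIndependent_iff.1 B.linearIndependent _ hrel
  have hd4 : d 4 = 0 := by
    have hj : d j = 0 := by simp [hd]
    fin_cases j
    · have := hcoef 3; simp at this hj; rw [hj, zero_add, mul_eq_zero] at this
      exact this.resolve_right (hc 3)
    · have := hcoef 2; simp at this hj; rw [hj, zero_add, mul_eq_zero] at this
      exact this.resolve_right (hc 2)
    · have := hcoef 1; simp at this hj; rw [hj, zero_add, mul_eq_zero] at this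
      exact this.resolve_right (hc 1)
    · have := hcoef 0; simp at this hj; rw [hj, zero_add, mul_eq_zero] at this
      exact this.resolve_right (hc 0)
    · simpa using hj
  have hall : ∀ i, d i = 0 := by
    intro i
    fin_cases i
    · simpa [hd4] using hcoef 3
    · simpa [hd4] using hcoef 2
    · simpa [hd4] using hcoef 1
    · simpa [hd4] using hcoef 0
    · exact hd4
  intro i
  simpa [hd] using hall (j.succAbove i)

end Groth.Agent.Cubic51
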