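import Groth.Agent.Cubic51.Rational
import Mathlib.Analysis.Polynomial.Basic
import Mathlib.Topology.Algebra.Polynomial
import Mathlib.Topology.Order.IntermediateValue

/-!
A real polynomial of odd degree has a real root.
-/

set_option autoImplicit false

namespace Groth.Agent.Cubic51

open Polynomial Filter

lemma exists_real_root (p : ℝ[X]) (hp : Odd p.natDegree) : ∃ r, p.eval r = 0 := by
  have key : ∀ q : ℝ[X], Odd q.natDegree → 0 ≤ q.leadingCoeff → ∃ r, q.eval r = 0 := by
    intro q hq hlc
    have hd : ∀ s : ℝ[X], s.natDegree = q.natDegree → 0 < s.degree := fun s hs =>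
      Polynomial.natDegree_pos_iff_degree_pos.1 (by rw [hs]; exact hq.pos)
    have h1 := q.tendsto_atTop_of_leadingCoeff_nonneg (hd q rfl) hlc
    set q' := -(q.comp (-X)) with hq'
    have hn : q'.natDegree = q.natDegree := by simp [hq', natDegree_comp]
    have hl : q'.leadingCoeff = q.leadingCoeff := by
      rw [hq', leadingCoeff_neg, leadingCoeff_comp (by simp), leadingCoeff_neg, leadingCoeff_X,
        hq.neg_one_pow]
      ring
    have h2 := q'.tendsto_atTop_of_leadingCoeff_nonneg (hd q' hn) (hl.symm ▸ hlc)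
    obtain ⟨b, hb⟩ := (h1.eventually_ge_atTop 0).exists
    obtain ⟨a, ha⟩ := (h2.eventually_ge_atTop 0).exists
    have ha' : q.eval (-a) ≤ 0 := by simpa [hq'] using ha
    have := intermediate_value_uIcc (f := fun x => q.eval x) (a := -a) (b := b) q.continuous.continuousOn
    obtain ⟨r, -, hr⟩ := this (Set.mem_uIcc_of_le ha' hb)
    exact ⟨r, hr⟩
  rcases le_total 0 p.leadingCoeff with h | h
  · exact key p hp h
  · obtain ⟨r, hr⟩ := key (-p) (by rwa [natDegree_neg]) (by simpa [leadingCoeff_neg] using h)
    exact ⟨r, by simpa using hr⟩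

end Groth.Agent.Cubic51
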