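import Groth.Agent.Cubic51.TPoint

/-!
Finitely many T-points on the tangent plane at a point which is not a T-point.
-/

set_option autoImplicit false

namespace Groth.Agent.Cubic51

open Eckardt51 Module Polynomial

variable {k V : Type*} [Field k] [CharZero k] [AddCommGroup V] [Module k V] [FiniteDimensional k V]

omit [CharZero k] in
lemma eq_span_of_finrank_one {U : Submodule k V} (hU : finrank k U = 1) :
    ∃ b ∈ U, b ≠ 0 ∧ U = Submodule.span k {b} := by
  obtain ⟨b, hb, hb0⟩ := (Submodule.ne_bot_iff U).1 fun h => by rw [h, finrank_bot] at hU; omega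
  exact ⟨b, hb, hb0, (Submodule.eq_of_le_of_finrank_eq
    ((Submodule.span_singleton_le_iff_mem _ _).2 hb) (by rw [finrank_span_singleton hb0, hU])).symm⟩

omit [CharZero k] in
lemma finite_points_line_inter {L H : Submodule k V} (hL : finrank k L = 2) (hLH : ¬ L ≤ H) :
    {U : Submodule k V | finrank k U = 1 ∧ U ≤ L ∧ U ≤ H}.Finite := by
  refine Set.Finite.subset (Set.finite_singleton (L ⊓ H)) fun U ⟨hU, hUL, hUH⟩ => ?_
  have hlt : L ⊓ H < L := lt_of_le_of_ne inf_le_left fun h => hLH (h ▸ inf_le_right)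
  have := Submodule.finrank_lt_finrank_of_lt hlt
  exact Submodule.eq_of_le_of_finrank_le (le_inf hUL hUH) (by omega)

lemma finite_points_cubic (F : Sym3 k V) {W : Submodule k V} (hW : finrank k W = 2) {p : V}
    (hpW : p ∈ W) (hp : F.f p ≠ 0) :
    {U : Submodule k V | finrank k U = 1 ∧ U ≤ W ∧ ∀ u ∈ U, F.f u = 0}.Finite := by
  have hp0 : p ≠ 0 := fun h => hp (by simp [h, Sym3.f])
  obtain ⟨u, huW, hu⟩ : ∃ u ∈ W, u ∉ Submodule.span k ({p} : Set V) := by
    by_contra hc
    push Not at hc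
    have := Submodule.finrank_mono (show W ≤ _ from hc)
    rw [hW, finrank_span_singleton hp0] at this
    omega
  have hli : LinearIndependent k ![u, p] := linearIndependent_finCons.2
    ⟨LinearIndependent.of_subsingleton (0 : Fin 1) (by simpa using hp0), by simpa using hu⟩
  refine Set.Finite.subset ((finite_roots_line F u p hp).image
    fun s => Submodule.span k ({u + s • p} : Set V)) fun U ⟨hU, hUW, hUS⟩ => ?_
  obtain ⟨b, hb, hb0, rfl⟩ := eq_span_of_finrank_one hU
  have hspan : Submodule.span k (Set.range ![u, p]) = W := by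
    refine Submodule.eq_of_le_of_finrank_eq ?_
      (by rw [finrank_span_eq_card hli, hW, Fintype.card_fin])
    rw [Submodule.span_le]; rintro _ ⟨i, rfl⟩; fin_cases i
    · exact huW
    · exact hpW
  obtain ⟨s, t, rfl⟩ := mem_span_pair' (hspan.symm ▸ hUW hb :
    b ∈ Submodule.span k (Set.range ![u, p]))
  have hf := hUS _ hb
  have hs : s ≠ 0 := fun h => by
    simp only [h, zero_smul, zero_add] at hf hb0
    rw [F.f_smul] at hf
    exact hp ((mul_eq_zero.1 hf).resolve_left (pow_ne_zero _ fun h' => hb0 (by simp [h'])))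
  have he : s • u + t • p = s • (u + (t / s) • p) := by
    rw [smul_add, smul_smul, mul_div_cancel₀ _ hs]
  refine ⟨t / s, ?_, ?_⟩
  · rw [he, F.f_smul] at hf
    exact (mul_eq_zero.1 hf).resolve_left (pow_ne_zero _ hs)
  · show Submodule.span k ({u + (t / s) • p} : Set V) = _
    rw [he, Submodule.span_singleton_smul_eq (isUnit_iff_ne_zero.2 hs)]

variable [IsAlgClosed k]

omit [IsAlgClosed k] [FiniteDimensional k V] in
/-- Polarization on a singular line. -/
lemma T_sing_eq_zero (F : Sym3 k V) {d : Submodule k V} (hd : ∀ u ∈ d, F.T u u = 0) {u v : V}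
    (hu : u ∈ d) (hv : v ∈ d) : F.T u v = 0 := by
  refine LinearMap.ext fun z => ?_
  have h := LinearMap.congr_fun (hd _ (add_mem hu hv)) z
  simp only [map_add, LinearMap.add_apply, LinearMap.zero_apply, hd u hu, hd v hv, F.s12 v u z] at h
  simpa [← two_mul] using h

omit [IsAlgClosed k] in
/-- With a singular line, at most one line is skew to it. -/
lemma skew_unique (F : Sym3 k V) (h4 : finrank k V = 4) (hP : NoPlane F) (hC : NonCone F)
    {d : Submodule k V} (hd2 : finrank k d = 2) (hd : ∀ u ∈ d, F.T u u = 0)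
    {n n' : Submodule k V} (hn : IsLine F n) (hnd : n ⊓ d = ⊥) (hn' : IsLine F n')
    (hnd' : n' ⊓ d = ⊥) : n = n' := by
  have htop : n ⊔ d = ⊤ := by
    refine Submodule.eq_top_of_finrank_eq ?_
    have := Submodule.finrank_sup_add_finrank_inf_eq n d
    rw [hnd, finrank_bot, hn.1, hd2] at this
    omega
  obtain ⟨p', hp', q', hq', hli', hspan'⟩ := exists_pair_span hn'.1
  obtain ⟨e₀, he₀, δ₀, hδ₀, rfl⟩ := Submodule.mem_sup.1 (htop.symm ▸ Submodule.mem_top : p' ∈ n ⊔ d)
  obtain ⟨e₁, he₁, δ₁, hδ₁, rfl⟩ := Submodule.mem_sup.1 (htop.symm ▸ Submodule.mem_top : q' ∈ n ⊔ d)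
  have hne : LinearIndependent k ![e₀, e₁] := LinearIndependent.pair_iff.2 fun s t h => by
    refine LinearIndependent.pair_iff.1 hli' s t ((Submodule.eq_bot_iff _).1 hnd' _
      ⟨add_mem (n'.smul_mem s hp') (n'.smul_mem t hq'), ?_⟩)
    rw [show s • (e₀ + δ₀) + t • (e₁ + δ₁) = (s • e₀ + t • e₁) + (s • δ₀ + t • δ₁) by module, h,
      zero_add]
    exact add_mem (d.smul_mem _ hδ₀) (d.smul_mem _ hδ₁)
  have hspan : Submodule.span k (Set.range ![e₀, e₁]) = n := by
    refine Submodule.eq_of_le_of_finrank_eq ?_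
      (by rw [finrank_span_eq_card hne, hn.1, Fintype.card_fin])
    rw [Submodule.span_le]; rintro _ ⟨i, rfl⟩; fin_cases i
    · exact he₀
    · exact he₁
  -- the difference as a binary form
  have key : ∀ s t : k, F.T (s • δ₀ + t • δ₁) (s • e₀ + t • e₁) (s • e₀ + t • e₁) = 0 := by
    intro s t
    have h := hn'.2 _ (add_mem (n'.smul_mem s hp') (n'.smul_mem t hq'))
    rw [show s • (e₀ + δ₀) + t • (e₁ + δ₁) = (s • e₀ + t • e₁) + (1 : k) • (s • δ₀ + t • δ₁) by
      module, F.f_add_smul, hn.2 _ (add_mem (n.smul_mem s he₀) (n.smul_mem t he₁))] at h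
    have hu : s • δ₀ + t • δ₁ ∈ d := add_mem (d.smul_mem _ hδ₀) (d.smul_mem _ hδ₁)
    generalize s • δ₀ + t • δ₁ = u at h hu
    generalize s • e₀ + t • e₁ = y at h
    have h0 : F.T u u y = 0 := by rw [hd u hu]; rfl
    have h1 : F.f u = 0 := by rw [← T_aab, hd u hu]; rfl
    rw [F.s13 y u u, h0, h1, F.s13 y y u] at h
    linear_combination (1 / 3 : k) * h
  have k10 := key 1 0
  have k01 := key 0 1
  have k11 := key 1 1
  have k1m := key 1 (-1)
  simp only [one_smul, zero_smul, add_zero, zero_add, neg_smul, map_add, map_neg,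
    LinearMap.add_apply, LinearMap.neg_apply, F.s23 δ₀ e₁ e₀, F.s23 δ₁ e₁ e₀] at k10 k01 k11 k1m
  have heq1 : F.T δ₁ e₀ e₀ + 2 * F.T δ₀ e₀ e₁ = 0 := by
    linear_combination (1 / 2 : k) * k11 - (1 / 2 : k) * k1m - k01
  have heq2 : 2 * F.T δ₁ e₀ e₁ + F.T δ₀ e₁ e₁ = 0 := by
    linear_combination (1 / 2 : k) * k11 + (1 / 2 : k) * k1m - k10
  -- every vector is a point of `n` plus one of `d`
  have hdec : ∀ x, ∃ s t : k, ∃ u ∈ d, x = s • e₀ + t • e₁ + u := by
    intro x
    obtain ⟨y, hy, u, hu, rfl⟩ := Submodule.mem_sup.1 (htop.symm ▸ Submodule.mem_top : x ∈ n ⊔ d)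
    obtain ⟨s, t, rfl⟩ := mem_span_pair' (hspan.symm ▸ hy : y ∈ Submodule.span k (Set.range ![e₀, e₁]))
    exact ⟨s, t, u, hu, rfl⟩
  have hcone : ∀ u ∈ d, F.T u e₀ e₀ = 0 → F.T u e₀ e₁ = 0 → F.T u e₁ e₁ = 0 → u = 0 := by
    intro u hu h00 h01 h11
    by_contra hu0
    obtain ⟨x, hx⟩ := hC u hu0
    obtain ⟨s, t, v, hv, rfl⟩ := hdec x
    have h1 : ∀ w, F.T u v w = 0 := fun w => by rw [T_sing_eq_zero F hd hu hv]; rfl
    apply hx
    simp only [map_add, map_smul, LinearMap.add_apply, LinearMap.smul_apply, smul_eq_mul, h00, h01,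
      h11, F.s23 u e₁ e₀, F.s23 u e₀ v, F.s23 u e₁ v, h1]
    ring
  by_cases hind : LinearIndependent k ![δ₀, δ₁]
  · exfalso
    have hdspan : Submodule.span k (Set.range ![δ₀, δ₁]) = d := by
      refine Submodule.eq_of_le_of_finrank_eq ?_
        (by rw [finrank_span_eq_card hind, hd2, Fintype.card_fin])
      rw [Submodule.span_le]; rintro _ ⟨i, rfl⟩; fin_cases i
      · exact hδ₀
      · exact hδ₁
    obtain ⟨y, hy, hy0, h0, h1⟩ : ∃ y ∈ n, y ≠ 0 ∧ F.T δ₀ y y = 0 ∧ F.T δ₁ y y = 0 := by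
      by_cases hm : F.T δ₁ e₀ e₀ = 0
      · exact ⟨e₀, he₀, hne.ne_zero 0, k10, hm⟩
      · refine ⟨F.T δ₀ e₁ e₁ • e₀ + F.T δ₁ e₀ e₀ • e₁, add_mem (n.smul_mem _ he₀) (n.smul_mem _ he₁),
          fun h => hm ((LinearIndependent.pair_iff.1 hne _ _ h).2), ?_, ?_⟩
        · simp only [map_add, map_smul, LinearMap.add_apply, LinearMap.smul_apply, smul_eq_mul,
            F.s23 δ₀ e₁ e₀]
          linear_combination (F.T δ₀ e₁ e₁) ^ 2 * k10 +
            (F.T δ₀ e₁ e₁ * F.T δ₁ e₀ e₀) * heq1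
        · simp only [map_add, map_smul, LinearMap.add_apply, LinearMap.smul_apply, smul_eq_mul,
            F.s23 δ₁ e₁ e₀]
          linear_combination (F.T δ₀ e₁ e₁ * F.T δ₁ e₀ e₀) * heq2 +
            (F.T δ₁ e₀ e₀) ^ 2 * k01
    have hyd : y ∉ d := fun h => hy0 ((Submodule.eq_bot_iff _).1 hnd y ⟨hy, h⟩)
    have hli3 : LinearIndependent k ![y, δ₀, δ₁] :=
      linearIndependent_finCons.2 ⟨hind, fun h => hyd (hdspan ▸ h)⟩
    obtain ⟨p, hp, hfp⟩ := exists_plane_point F h4 hP
      (H := Submodule.span k (Set.range ![y, δ₀, δ₁]))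
      (by rw [finrank_span_eq_card hli3, Fintype.card_fin])
    obtain ⟨s, t, r, rfl⟩ := mem_span_triple' hp
    have hu : t • δ₀ + r • δ₁ ∈ d := add_mem (d.smul_mem _ hδ₀) (d.smul_mem _ hδ₁)
    apply hfp
    have hyy : F.T (t • δ₀ + r • δ₁) y y = 0 := by
      simp [h0, h1]
    rw [show s • y + t • δ₀ + r • δ₁ = s • y + (1 : k) • (t • δ₀ + r • δ₁) by module,
      f_smul_add_smul, hn.2 y hy]
    generalize t • δ₀ + r • δ₁ = u at hu hyy
    have h2 : F.T u u y = 0 := by rw [hd u hu]; rfl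
    have h3 : F.f u = 0 := by rw [← T_aab, hd u hu]; rfl
    rw [F.s13 y u u, h2, h3, F.s13 y y u, hyy]
    ring
  · have hz : δ₀ = 0 ∧ δ₁ = 0 := by
      rw [LinearIndependent.pair_iff] at hind
      push Not at hind
      obtain ⟨s, t, hst, hne0⟩ := hind
      by_cases hs : s = 0
      · have h1 : δ₁ = 0 := by simpa [hs, hne0 hs] using hst
        refine ⟨?_, h1⟩
        rw [h1] at heq1 heq2
        simp at heq1 heq2
        exact hcone δ₀ hδ₀ k10 heq1 heq2
      · have h0 : δ₀ = (-(t / s)) • δ₁ := by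
          rw [← inv_smul_smul₀ hs δ₀, show s • δ₀ = -(t • δ₁) from eq_neg_of_add_eq_zero_left hst,
            smul_neg, smul_smul, neg_smul, div_eq_inv_mul]
        have h1 : δ₁ = 0 := by
          rw [h0] at heq1 heq2
          simp only [map_smul, map_neg, LinearMap.smul_apply, LinearMap.neg_apply, smul_eq_mul,
            neg_smul] at heq1 heq2
          have e01 : F.T δ₁ e₀ e₁ = 0 := by linear_combination (1 / 2 : k) * heq2 + (t / s / 2) * k01
          have e00 : F.T δ₁ e₀ e₀ = 0 := by linear_combination heq1 + (2 * (t / s)) * e01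
          exact hcone δ₁ hδ₁ e00 e01 k01
        exact ⟨by rw [h0, h1, smul_zero], h1⟩
    refine Submodule.eq_of_le_of_finrank_eq ?_ (by rw [hn.1, hn'.1])
    rw [← hspan, Submodule.span_le]; rintro _ ⟨i, rfl⟩; fin_cases i
    · simpa [hz.1] using hp'
    · simpa [hz.2] using hq'

omit [IsAlgClosed k] in
/-- Coordinates adapted to a line of the ambient space. -/
lemma exists_basis_line (h4 : finrank k V = 4) {d : Submodule k V} (hd2 : finrank k d = 2) :
    ∃ B : Basis (Fin 4) k V, B 2 ∈ d ∧ B 3 ∈ d ∧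
      ∀ x, x ∈ d ↔ B.coord 0 x = 0 ∧ B.coord 1 x = 0 := by
  obtain ⟨p, hp, q, hq, hli, hspan⟩ := exists_pair_span hd2
  obtain ⟨e, he⟩ : ∃ e, e ∉ Submodule.span k (Set.range ![p, q]) := by
    by_contra hc
    push Not at hc
    have := Submodule.finrank_mono (show (⊤ : Submodule k V) ≤ _ from fun x _ => hc x)
    rw [finrank_top, finrank_span_eq_card hli, h4, Fintype.card_fin] at this
    omega
  have hli3 : LinearIndependent k ![e, p, q] := linearIndependent_finCons.2 ⟨hli, he⟩
  obtain ⟨g, hg⟩ : ∃ g, g ∉ Submodule.span k (Set.range ![e, p, q]) := by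
    by_contra hc
    push Not at hc
    have := Submodule.finrank_mono (show (⊤ : Submodule k V) ≤ _ from fun x _ => hc x)
    rw [finrank_top, finrank_span_eq_card hli3, h4, Fintype.card_fin] at this
    omega
  have hli4 : LinearIndependent k ![g, e, p, q] := linearIndependent_finCons.2 ⟨hli3, hg⟩
  let B : Basis (Fin 4) k V :=
    basisOfLinearIndependentOfCardEqFinrank hli4 (by simp [h4])
  have h2 : B 2 = p := by simp [B]
  have h3 : B 3 = q := by simp [B]
  refine ⟨B, h2 ▸ hp, h3 ▸ hq, fun x => ⟨fun hx => ?_, fun ⟨hx0, hx1⟩ => ?_⟩⟩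
  · obtain ⟨s, t, rfl⟩ := mem_span_pair' (hspan.symm ▸ hx : x ∈ Submodule.span k (Set.range ![p, q]))
    rw [← h2, ← h3]
    simp
  · rw [← B.sum_repr x, Fin.sum_univ_four]
    rw [Basis.coord_apply] at hx0 hx1
    rw [hx0, hx1, zero_smul, zero_smul, zero_add, zero_add, h2, h3]
    exact add_mem (d.smul_mem _ hp) (d.smul_mem _ hq)

omit [IsAlgClosed k] [FiniteDimensional k V] in
/-- The tangent data of a point on a line which meets the singular line. -/
lemma torsal_kills (F : Sym3 k V) {d : Submodule k V}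
    (hd : ∀ x, x ≠ 0 → (F.T x x = 0 ↔ x ∈ d)) {b p : V} (hb : b ∉ d) (hbb : F.T b b ≠ 0)
    (hp : p ∈ d) (hp0 : p ≠ 0) {L : Submodule k V} (hbL : b ∈ L) (hpL : p ∈ L)
    (h : ∀ x ∈ L, ∀ z ∈ LinearMap.ker (F.T b b), F.T x x z = 0) : F.T p b = 0 := by
  have hpp : F.T p p = 0 := (hd p hp0).2 hp
  obtain ⟨w, hw⟩ : ∃ w, F.T b b w ≠ 0 := by
    by_contra hc
    push Not at hc
    exact hbb (LinearMap.ext hc)
  set κ := F.T p b w / F.T b b w
  have hfun : ∀ z, F.T p b z = κ * F.T b b z := by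
    intro z
    set z' := z - (F.T b b z / F.T b b w) • w with hz'
    have hz'k : F.T b b z' = 0 := by
      rw [hz', map_sub, map_smul, smul_eq_mul, div_mul_cancel₀ _ hw, sub_self]
    have h1 := h (b + p) (add_mem hbL hpL) z' (LinearMap.mem_ker.2 hz'k)
    simp only [map_add, LinearMap.add_apply, hz'k, hpp, LinearMap.zero_apply, F.s12 b p z'] at h1
    have h2 : F.T p b z' = 0 := by linear_combination (1 / 2 : k) * h1
    rw [hz', map_sub, map_smul, smul_eq_mul, sub_eq_zero] at h2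
    rw [h2]
    simp only [κ]
    field_simp
  by_cases hκ : κ = 0
  · exact LinearMap.ext fun z => by rw [hfun, hκ, zero_mul]; rfl
  exfalso
  set x := b + (-1 / (2 * κ)) • p with hx
  have hxd : x ∉ d := fun h => hb (by
    have := sub_mem h (d.smul_mem (-1 / (2 * κ)) hp)
    rwa [hx, add_sub_cancel_right] at this)
  refine hxd ((hd x fun h0 => hxd (h0 ▸ d.zero_mem)).1 (LinearMap.ext fun z => ?_))
  simp only [hx, map_add, map_smul, LinearMap.add_apply, LinearMap.smul_apply, smul_eq_mul, hpp,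
    LinearMap.zero_apply, F.s12 b p z, hfun z]
  field_simp
  ring

/-- A tangent plane at a point which is not a T-point carries finitely many T-points. -/
theorem finite_TPoints (F : Sym3 k V) (h4 : finrank k V = 4) (hP : NoPlane F) (hC : NonCone F)
    {a : V} (hfa : F.f a = 0) (hsm : F.T a a ≠ 0)
    (hns : ¬ SplitOn F (LinearMap.ker (F.T a a))) :
    {U : Submodule k V | finrank k U = 1 ∧ U ≤ LinearMap.ker (F.T a a) ∧
      ∀ b ∈ U, b ≠ 0 → F.f b = 0 ∧ F.T b b ≠ 0 ∧ SplitOn F (LinearMap.ker (F.T b b))}.Finite := by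
  classical
  set H := LinearMap.ker (F.T a a) with hHdef
  have hH : finrank k H = 3 := by
    have := finrank_ker_add_one hsm; rw [← hHdef] at this; omega
  have hin : ∀ m, IsLine F m → m ≤ H → a ∈ m := fun m hm hmH => by
    by_contra h; exact hns (splitOn_of_line_not_mem F hfa hH hm hmH h)
  have huniq : ∀ m m', IsLine F m → IsLine F m' → m ≤ H → m' ≤ H → m = m' := by
    intro m m' hm hm' h h'
    by_contra hne; exact hns (splitOn_of_two_lines F hH hm hm' hne h h')
  -- each point lies on a line not in the plane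
  have houter : ∀ b, b ∈ H → F.f b = 0 → F.T b b ≠ 0 → SplitOn F (LinearMap.ker (F.T b b)) →
      (∃ L L', IsLine F L ∧ IsLine F L' ∧ L ≠ L' ∧ b ∈ L ∧ b ∈ L' ∧ ¬ L ≤ H ∧
        L ≤ LinearMap.ker (F.T b b) ∧ L' ≤ LinearMap.ker (F.T b b)) ∨
      ∃ L, IsLine F L ∧ b ∈ L ∧ ¬ L ≤ H ∧
        ∀ x ∈ L, ∀ z ∈ LinearMap.ker (F.T b b), F.T x x z = 0 := by
    intro b _ hfb hbb hs
    rcases lines_of_split F h4 hP hfb hbb hs with
      ⟨L, L', hL, hL', hne, hb, hb', hT, hT'⟩ | ⟨L, hL, hb, hT, hx⟩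
    · by_cases h : L ≤ H
      · have h' : ¬ L' ≤ H := fun h' => hne (huniq L L' hL hL' h h')
        exact .inl ⟨L', L, hL', hL, hne.symm, hb', hb, h', hT', hT⟩
      · exact .inl ⟨L, L', hL, hL', hne, hb, hb', h, hT, hT'⟩
    · refine .inr ⟨L, hL, hb, fun h => hns ?_, hx⟩
      have hle : LinearMap.ker (F.T b b) ≤ H := fun z hz => LinearMap.mem_ker.2 (hx a (hin L hL h) z hz)
      have hb3 : finrank k (LinearMap.ker (F.T b b)) = 3 := by
        have := finrank_ker_add_one hbb; omega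
      rwa [← Submodule.eq_of_le_of_finrank_eq hle (by rw [hb3, hH])]
  by_cases hfin : (SingSet F).Finite
  · refine Set.Finite.subset (Set.Finite.biUnion
      ((finite_lines F h4 hP hC hfin).subset (fun m (hm : IsLine F m ∧ ¬ m ≤ H) => hm.1))
      fun L hL => finite_points_line_inter hL.1.1 hL.2) fun U ⟨hU, hUH, hUb⟩ => ?_
    obtain ⟨b, hb, hb0, hUs⟩ := eq_span_of_finrank_one hU
    obtain ⟨hfb, hbb, hs⟩ := hUb b hb hb0
    simp only [Set.mem_iUnion, Set.mem_setOf_eq, exists_prop]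
    rcases houter b (hUH hb) hfb hbb hs with ⟨L, _, hL, -, -, hbL, -, hLH, -⟩ | ⟨L, hL, hbL, hLH, -⟩ <;>
      exact ⟨L, ⟨hL, hLH⟩, hU, by rw [hUs, Submodule.span_singleton_le_iff_mem]; exact hbL, hUH⟩
  obtain ⟨d, hd2, hdiff⟩ := exists_singular_line F h4 hP hC hfin
  have hd : ∀ u ∈ d, F.T u u = 0 := fun u hu => by
    by_cases h0 : u = 0
    · simp [h0]
    · exact (hdiff u h0).2 hu
  have hdS : IsLine F d := ⟨hd2, fun u hu => by rw [← T_aab, hd u hu]; rfl⟩
  have had : a ∉ d := fun h => hsm (hd a h)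
  have hdH : ¬ d ≤ H := fun h => had (hin d hdS h)
  -- lines in the plane meet the singular line
  have hmeet : ∀ m, IsLine F m → m ≤ H → m ⊓ d ≠ ⊥ := by
    intro m hm hmH hbot
    obtain ⟨q, hqd, hqH, hq0⟩ := exists_ne_zero_mem_inf (U := d) (W := H) (H := ⊤) le_top le_top
      (by rw [finrank_top, h4, hd2, hH]; norm_num)
    have hli : LinearIndependent k ![q, a] := linearIndependent_finCons.2
      ⟨LinearIndependent.of_subsingleton (0 : Fin 1) (by
        simpa using fun h : a = 0 => hsm (by simp [h])), fun h => by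
        obtain ⟨c, hc⟩ := Submodule.mem_span_singleton.1 (show q ∈ Submodule.span k {a} by simpa using h)
        refine had ?_
        have hc0 : c ≠ 0 := fun h0 => hq0 (by rw [← hc, h0, zero_smul])
        rw [← inv_smul_smul₀ hc0 a, hc]
        exact d.smul_mem _ hqd⟩
    have hl : IsLine F (Submodule.span k (Set.range ![q, a])) := by
      refine ⟨by rw [finrank_span_eq_card hli, Fintype.card_fin], fun u hu => ?_⟩
      obtain ⟨s, t, rfl⟩ := mem_span_pair' hu
      rw [f_smul_add_smul, F.s13 q a a, LinearMap.mem_ker.1 hqH, hd q hqd, hfa, hdS.2 q hqd]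
      simp
    have hlH : Submodule.span k (Set.range ![q, a]) ≤ H := by
      rw [Submodule.span_le]; rintro _ ⟨i, rfl⟩; fin_cases i
      · exact hqH
      · simp [H, T_aab, hfa]
    have := huniq m _ hm hl hmH hlH
    exact hq0 ((Submodule.eq_bot_iff _).1 hbot q ⟨this ▸ Submodule.subset_span ⟨0, rfl⟩, hqd⟩)
  have hskew : {n | IsLine F n ∧ n ⊓ d = ⊥}.Finite := Set.Subsingleton.finite fun n hn n' hn' =>
    skew_unique F h4 hP hC hd2 hd hn.1 hn.2 hn'.1 hn'.2
  obtain ⟨B, hB2, hB3, hB⟩ := exists_basis_line h4 hd2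
  have hdu : ∀ u ∈ d, ∀ v ∈ d, F.T u v = 0 := fun u hu v hv => T_sing_eq_zero F hd hu hv
  -- the polynomial detecting the bad planes
  let P : V → k[X] := fun u => C (F.T u (B 1) (B 1)) + C (2 * F.T u (B 1) (B 0)) * X +
    C (F.T u (B 0) (B 0)) * X ^ 2
  have hP' : ∀ u s, (P u).eval s = F.T u (B 1 + s • B 0) (B 1 + s • B 0) := fun u s => by
    simp only [P, eval_add, eval_mul, eval_C, eval_X, eval_pow, map_add, map_smul,
      LinearMap.add_apply, LinearMap.smul_apply, smul_eq_mul, F.s23 u (B 0) (B 1)]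
    ring
  have hP'' : ∀ u s, (derivative (P u)).eval s = 2 * F.T u (B 1 + s • B 0) (B 0) := fun u s => by
    simp only [P, derivative_add, derivative_mul, derivative_C, derivative_X, derivative_X_pow,
      eval_add, eval_mul, eval_C, eval_X, eval_pow, map_add, map_smul,
      LinearMap.add_apply, LinearMap.smul_apply, smul_eq_mul, zero_mul, zero_add, eval_zero,
      eval_one]
    simp
    ring
  have hcone : ∀ u ∈ d, P u = 0 → u = 0 := by
    intro u hu hPu
    by_contra hu0
    obtain ⟨x, hx⟩ := hC u hu0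
    have e0 := congrArg (fun p => coeff p 0) hPu
    have e1 := congrArg (fun p => coeff p 1) hPu
    have e2 := congrArg (fun p => coeff p 2) hPu
    simp [P, coeff_X, coeff_C] at e0 e1 e2
    have h1 : ∀ v ∈ d, ∀ w, F.T u v w = 0 := fun v hv w => by rw [hdu u hu v hv]; rfl
    apply hx
    rw [← B.sum_repr x, Fin.sum_univ_four]
    simp only [map_add, map_smul, LinearMap.add_apply, LinearMap.smul_apply, smul_eq_mul, e0, e1,
      e2, F.s23 u (B 0) (B 1), F.s23 u (B 0) (B 2), F.s23 u (B 0) (B 3), F.s23 u (B 1) (B 2),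
      F.s23 u (B 1) (B 3), h1 _ hB2, h1 _ hB3]
    ring
  let J : k[X] := P (B 2) * derivative (P (B 3)) - P (B 3) * derivative (P (B 2))
  have hJ : J ≠ 0 := by
    intro hJ
    have h3 : P (B 3) ≠ 0 := fun h => B.ne_zero 3 (hcone _ hB3 h)
    obtain ⟨κ, hκ⟩ := wronskian h3 (G := P (B 2)) (by linear_combination -hJ)
    have hu : B 2 - κ • B 3 ∈ d := sub_mem hB2 (d.smul_mem κ hB3)
    have hz : P (B 2 - κ • B 3) = 0 := by
      refine Polynomial.funext fun s => ?_
      have h := congrArg (Polynomial.eval s) hκ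
      rw [eval_mul, eval_C, hP', hP'] at h
      rw [hP', eval_zero, map_sub, map_smul, LinearMap.sub_apply, LinearMap.smul_apply,
        LinearMap.sub_apply, LinearMap.smul_apply, smul_eq_mul, h, sub_self]
    have := congrArg (B.coord 2) (sub_eq_zero.1 (hcone _ hu hz))
    simp at this
  let planes : Set (V →ₗ[k] k) :=
    (fun s => B.coord 0 - s • B.coord 1) '' {s | J.eval s = 0} ∪ {B.coord 1}
  have hplanes : planes.Finite :=
    ((finite_setOf_isRoot hJ).image _).union (Set.finite_singleton _)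
  have hplane0 : ∀ θ ∈ planes, θ ≠ 0 ∧ d ≤ LinearMap.ker θ := by
    intro θ hθ
    rcases hθ with ⟨s, -, rfl⟩ | hθ
    · refine ⟨fun h => ?_, fun u hu => ?_⟩
      · have := LinearMap.congr_fun h (B 0)
        simp at this
      · have h0 := (hB u).1 hu
        simp only [LinearMap.mem_ker, LinearMap.sub_apply, LinearMap.smul_apply, smul_eq_mul, h0.1,
          h0.2, mul_zero, sub_zero]
    · rw [Set.mem_singleton_iff] at hθ
      subst hθ
      refine ⟨fun h => ?_, fun u hu => LinearMap.mem_ker.2 ((hB u).1 hu).2⟩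
      have := LinearMap.congr_fun h (B 1)
      simp at this
  have hW : ∀ θ ∈ planes, finrank k (H ⊓ LinearMap.ker θ : Submodule k V) = 2 := by
    intro θ hθ
    obtain ⟨h0, hdθ⟩ := hplane0 θ hθ
    have h1 := Submodule.finrank_sup_add_finrank_inf_eq H (LinearMap.ker θ)
    have h2 := finrank_ker_add_one h0
    have h3 : H < H ⊔ LinearMap.ker θ := lt_of_le_of_ne le_sup_left fun h =>
      hdH (hdθ.trans (le_sup_right.trans h.ge))
    have h5 := Submodule.finrank_lt_finrank_of_lt h3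
    have h6 := Submodule.finrank_le (H ⊔ LinearMap.ker θ)
    omega
  let skewpts : Set (Submodule k V) :=
    ⋃ L ∈ {n | (IsLine F n ∧ n ⊓ d = ⊥) ∧ ¬ n ≤ H}, {U | finrank k U = 1 ∧ U ≤ L ∧ U ≤ H}
  let planepts : Set (Submodule k V) :=
    ⋃ θ ∈ {θ | θ ∈ planes ∧ ∃ p ∈ H ⊓ LinearMap.ker θ, F.f p ≠ 0},
      {U | finrank k U = 1 ∧ U ≤ H ⊓ LinearMap.ker θ ∧ ∀ u ∈ U, F.f u = 0}
  have hs1 : skewpts.Finite := Set.Finite.biUnion (hskew.subset fun n hn => hn.1)
    fun L hL => finite_points_line_inter hL.1.1.1 hL.2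
  have hs2 : planepts.Finite := Set.Finite.biUnion (hplanes.subset fun θ hθ => hθ.1)
    fun θ ⟨hθ, p, hp, hfp⟩ => finite_points_cubic F (hW θ hθ) hp hfp
  refine (hs1.union hs2).subset fun U ⟨hU, hUH, hUb⟩ => ?_
  obtain ⟨b, hbU, hb0, hUs⟩ := eq_span_of_finrank_one hU
  obtain ⟨hfb, hbb, hsb⟩ := hUb b hbU hb0
  have hbH : b ∈ H := hUH hbU
  have hbd : b ∉ d := fun h => hbb (hd b h)
  have hUle : ∀ {W : Submodule k V}, b ∈ W → U ≤ W := fun h => by
    rw [hUs, Submodule.span_singleton_le_iff_mem]; exact h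
  by_cases hsk : ∃ L, IsLine F L ∧ L ⊓ d = ⊥ ∧ b ∈ L ∧ ¬ L ≤ H
  · obtain ⟨L, hL, hLd, hbL, hLH⟩ := hsk
    exact .inl (Set.mem_biUnion (x := L) ⟨⟨hL, hLd⟩, hLH⟩ ⟨hU, hUle hbL, hUH⟩)
  -- all lines through the point meet the singular line
  have hmt : ∀ L, IsLine F L → b ∈ L → ∃ p ∈ L, p ∈ d ∧ p ≠ 0 := by
    intro L hL hbL
    have hne : L ⊓ d ≠ ⊥ := fun h => by
      by_cases hLH : L ≤ H
      · exact hmeet L hL hLH h
      · exact hsk ⟨L, hL, h, hbL, hLH⟩
    obtain ⟨p, hp, hp0⟩ := (Submodule.ne_bot_iff _).1 hne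
    exact ⟨p, hp.1, hp.2, hp0⟩
  obtain ⟨L, hL, hbL, hLH, hcond⟩ : ∃ L, IsLine F L ∧ b ∈ L ∧ ¬ L ≤ H ∧
      ((∀ u ∈ d, F.T b b u = 0) ∨ ∃ p ∈ d, p ≠ 0 ∧ F.T p b = 0) := by
    rcases houter b hbH hfb hbb hsb with
      ⟨L, L', hL, hL', hne, hbL, hbL', hLH, hT, hT'⟩ | ⟨L, hL, hbL, hLH, hx⟩
    · refine ⟨L, hL, hbL, hLH, .inl fun u hu => ?_⟩
      obtain ⟨p, hpL, hpd, hp0⟩ := hmt L hL hbL
      obtain ⟨p', hpL', hpd', hp0'⟩ := hmt L' hL' hbL'
      have hbp : ∀ {m : Submodule k V} {q : V}, finrank k m = 2 → b ∈ m → q ∈ m → q ∈ d → q ≠ 0 →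
          Submodule.span k (Set.range ![b, q]) = m := by
        intro m q hm hbm hqm hqd hq0
        have hi : LinearIndependent k ![b, q] := linearIndependent_finCons.2
          ⟨LinearIndependent.of_subsingleton (0 : Fin 1) (by simpa using hq0), fun h => by
            obtain ⟨c, hc⟩ := Submodule.mem_span_singleton.1
              (show b ∈ Submodule.span k {q} by simpa using h)
            exact hbd (hc ▸ d.smul_mem c hqd)⟩
        refine Submodule.eq_of_le_of_finrank_eq ?_ (by rw [finrank_span_eq_card hi, hm, Fintype.card_fin])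
        rw [Submodule.span_le]; rintro _ ⟨i, rfl⟩; fin_cases i
        · exact hbm
        · exact hqm
      have hi : LinearIndependent k ![p, p'] := linearIndependent_finCons.2
        ⟨LinearIndependent.of_subsingleton (0 : Fin 1) (by simpa using hp0'), fun h => by
          obtain ⟨c, hc⟩ := Submodule.mem_span_singleton.1
            (show p ∈ Submodule.span k {p'} by simpa using h)
          have hpm : p ∈ L' := hc ▸ L'.smul_mem c hpL'
          exact hne ((hbp hL.1 hbL hpL hpd hp0).symm.trans (hbp hL'.1 hbL' hpm hpd hp0))⟩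
      have hspan : Submodule.span k (Set.range ![p, p']) = d := by
        refine Submodule.eq_of_le_of_finrank_eq ?_
          (by rw [finrank_span_eq_card hi, hd2, Fintype.card_fin])
        rw [Submodule.span_le]; rintro _ ⟨i, rfl⟩; fin_cases i
        · exact hpd
        · exact hpd'
      obtain ⟨s, t, rfl⟩ := mem_span_pair' (hspan.symm ▸ hu :
        u ∈ Submodule.span k (Set.range ![p, p']))
      rw [map_add, map_smul, map_smul, LinearMap.mem_ker.1 (hT hpL), LinearMap.mem_ker.1 (hT' hpL')]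
      simp
    · obtain ⟨p, hpL, hpd, hp0⟩ := hmt L hL hbL
      exact ⟨L, hL, hbL, hLH,
        .inr ⟨p, hpd, hp0, torsal_kills F hdiff hbd hbb hpd hp0 hbL hpL hx⟩⟩
  -- the plane through the singular line and the point is special
  obtain ⟨θ, hθ, hbθ⟩ : ∃ θ ∈ planes, θ b = 0 := by
    by_cases hc1 : B.coord 1 b = 0
    · exact ⟨_, .inr rfl, hc1⟩
    set c1 := B.coord 1 b with hc1def
    set s := B.coord 0 b / c1 with hs
    refine ⟨_, .inl ⟨s, ?_, rfl⟩, by
      simp only [LinearMap.sub_apply, LinearMap.smul_apply, smul_eq_mul, hs, ← hc1def]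
      rw [div_mul_cancel₀ _ hc1, sub_self]⟩
    have hv : b - c1 • (B 1 + s • B 0) ∈ d := by
      rw [hB]
      constructor
      · simp [hs, mul_div_cancel₀ _ hc1]
      · simp [c1]
    set y := B 1 + s • B 0 with hy
    have hTb : ∀ u ∈ d, F.T u b = c1 • F.T u y := fun u hu => by
      have := hdu u hu _ hv
      rwa [map_sub, map_smul, sub_eq_zero] at this
    have hTbb : ∀ u ∈ d, F.T u b b = c1 ^ 2 * F.T u y y := fun u hu => by
      rw [hTb u hu, LinearMap.smul_apply, smul_eq_mul, F.s23 u y b, hTb u hu,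
        LinearMap.smul_apply, smul_eq_mul]
      ring
    have hmain : F.T (B 2) b b * F.T (B 3) b (B 0) - F.T (B 3) b b * F.T (B 2) b (B 0) = 0 := by
      rcases hcond with h | ⟨p, hpd, hp0, hp⟩
      · rw [F.s13 (B 2) b b, F.s13 (B 3) b b, h _ hB2, h _ hB3]; ring
      · have h0 := (hB p).1 hpd
        have hp' : p = B.coord 2 p • B 2 + B.coord 3 p • B 3 := by
          conv_lhs => rw [← B.sum_repr p, Fin.sum_univ_four]
          simp only [Basis.coord_apply] at h0 ⊢
          rw [h0.1, h0.2]; simp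
        generalize B.coord 2 p = α, B.coord 3 p = β at hp'
        have e1 := LinearMap.congr_fun hp b
        have e2 := LinearMap.congr_fun hp (B 0)
        rw [hp'] at e1 e2 hp0
        simp only [map_add, map_smul, LinearMap.add_apply, LinearMap.smul_apply, smul_eq_mul,
          LinearMap.zero_apply] at e1 e2
        rcases eq_or_ne α 0 with hα | hα
        · have hβ : β ≠ 0 := fun hβ => hp0 (by simp [hα, hβ])
          refine (mul_eq_zero.1 (?_ : β * _ = 0)).resolve_left hβ
          linear_combination -(F.T (B 2) b (B 0)) * e1 + (F.T (B 2) b b) * e2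
        · refine (mul_eq_zero.1 (?_ : α * _ = 0)).resolve_left hα
          linear_combination (F.T (B 3) b (B 0)) * e1 - (F.T (B 3) b b) * e2
    rw [hTbb _ hB2, hTbb _ hB3, hTb _ hB2, hTb _ hB3, LinearMap.smul_apply, LinearMap.smul_apply,
      smul_eq_mul, smul_eq_mul] at hmain
    show J.eval s = 0
    simp only [J, eval_sub, eval_mul, hP', hP'', ← hy]
    refine (mul_eq_zero.1 (?_ : c1 ^ 3 * _ = 0)).resolve_left (pow_ne_zero _ hc1)
    linear_combination 2 * hmain
  by_cases hW0 : ∃ p ∈ H ⊓ LinearMap.ker θ, F.f p ≠ 0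
  · refine .inr (Set.mem_biUnion (x := θ) ⟨hθ, hW0⟩
      ⟨hU, hUle ⟨hbH, LinearMap.mem_ker.2 hbθ⟩, fun u hu => ?_⟩)
    obtain ⟨c, rfl⟩ := Submodule.mem_span_singleton.1 (hUs ▸ hu : u ∈ Submodule.span k {b})
    rw [F.f_smul, hfb, mul_zero]
  exfalso
  push Not at hW0
  -- otherwise the plane would lie on the surface
  have hWline : IsLine F (H ⊓ LinearMap.ker θ) := ⟨hW θ hθ, hW0⟩
  obtain ⟨q, hqW, hqd, hq0⟩ : ∃ q ∈ H ⊓ LinearMap.ker θ, q ∈ d ∧ q ≠ 0 := by
    refine exists_ne_zero_mem_inf (H := LinearMap.ker θ) inf_le_right (hplane0 θ hθ).2 ?_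
    have := finrank_ker_add_one (hplane0 θ hθ).1
    rw [hW θ hθ, hd2]; omega
  obtain ⟨p, hpL, hpd, hp0⟩ := hmt L hL hbL
  have hpb : LinearIndependent k ![b, p] := linearIndependent_finCons.2
    ⟨LinearIndependent.of_subsingleton (0 : Fin 1) (by simpa using hp0), fun h => by
      obtain ⟨c, hc⟩ := Submodule.mem_span_singleton.1 (show b ∈ Submodule.span k {p} by simpa using h)
      exact hbd (hc ▸ d.smul_mem c hpd)⟩
  have hqp : LinearIndependent k ![q, p] := linearIndependent_finCons.2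
    ⟨LinearIndependent.of_subsingleton (0 : Fin 1) (by simpa using hp0), fun h => by
      obtain ⟨c, hc⟩ := Submodule.mem_span_singleton.1 (show q ∈ Submodule.span k {p} by simpa using h)
      have hc0 : c ≠ 0 := fun h0 => hq0 (by rw [← hc, h0, zero_smul])
      apply hLH
      have hL' : Submodule.span k (Set.range ![b, p]) = L := by
        refine Submodule.eq_of_le_of_finrank_eq ?_
          (by rw [finrank_span_eq_card hpb, hL.1, Fintype.card_fin])
        rw [Submodule.span_le]; rintro _ ⟨i, rfl⟩; fin_cases i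
        · exact hbL
        · exact hpL
      rw [← hL', Submodule.span_le]; rintro _ ⟨i, rfl⟩; fin_cases i
      · exact hbH
      · show p ∈ H
        rw [← inv_smul_smul₀ hc0 p, hc]
        exact H.smul_mem _ hqW.1⟩
  have hdspan : Submodule.span k (Set.range ![q, p]) = d := by
    refine Submodule.eq_of_le_of_finrank_eq ?_
      (by rw [finrank_span_eq_card hqp, hd2, Fintype.card_fin])
    rw [Submodule.span_le]; rintro _ ⟨i, rfl⟩; fin_cases i
    · exact hqd
    · exact hpd
  have hli3 : LinearIndependent k ![b, q, p] :=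
    linearIndependent_finCons.2 ⟨hqp, fun h => hbd (hdspan ▸ h)⟩
  obtain ⟨z, hz, hfz⟩ := exists_plane_point F h4 hP (H := Submodule.span k (Set.range ![b, q, p]))
    (by rw [finrank_span_eq_card hli3, Fintype.card_fin])
  obtain ⟨s, t, r, rfl⟩ := mem_span_triple' hz
  have hu : t • q + r • p ∈ d := add_mem (d.smul_mem _ hqd) (d.smul_mem _ hpd)
  have hbbu : F.T b b (t • q + r • p) = 0 := by
    rw [map_add, map_smul, map_smul,
      F.T_eq_zero_of_f_eq_zero hWline.2 ⟨hbH, LinearMap.mem_ker.2 hbθ⟩ ⟨hbH, LinearMap.mem_ker.2 hbθ⟩ hqW,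
      F.T_eq_zero_of_f_eq_zero hL.2 hbL hbL hpL]
    simp
  apply hfz
  rw [show s • b + t • q + r • p = s • b + (1 : k) • (t • q + r • p) by module, f_smul_add_smul,
    hfb, hbbu, F.s13 b _ _, hdS.2 _ hu, hd _ hu]
  simp

end Groth.Agent.Cubic51
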